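import Mathlib.GroupTheory.GroupAction.Quotient
import Mathlib.GroupTheory.Coset.Card
import Mathlib.GroupTheory.Index
import Mathlib.SetTheory.Cardinal.Finite
import Mathlib.Algebra.BigOperators.Ring.Finset

/-!
# Weighted sums over a finite set with a group action
-/

namespace CfsgLib.BrauerFeit

open scoped Classical

/-- A sum of an invariant function is a sum over orbit representatives. -/
theorem exists_reps {G : Type*} [Group G] (Ω : Type*) [Fintype Ω] [MulAction G Ω] :
    ∃ s : Finset Ω, ∀ w : Ω → ℕ, (∀ (g : G) (x : Ω), w (g • x) = w x) →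
      ∑ x, w x = ∑ x ∈ s, (MulAction.stabilizer G x).index * w x := by
  refine ⟨Finset.univ.image (fun q : MulAction.orbitRel.Quotient G Ω => Quotient.out q),
    fun w hw => ?_⟩
  rw [Finset.sum_image (fun a _ b _ hab => Quotient.out_injective hab),
    ← Finset.sum_fiberwise (s := Finset.univ)
      (g := fun x : Ω => (Quotient.mk (MulAction.orbitRel G Ω) x))]
  refine Finset.sum_congr rfl fun q _ => ?_
  have key : ∀ y ∈ Finset.univ.filter (fun y : Ω => Quotient.mk (MulAction.orbitRel G Ω) y = q),
      w y = w (Quotient.out q) := by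
    intro y hy
    rw [Finset.mem_filter] at hy
    obtain ⟨g, rfl⟩ : y ∈ MulAction.orbit G (Quotient.out q) :=
      MulAction.orbitRel_apply.mp (Quotient.exact (hy.2.trans (Quotient.out_eq q).symm))
    rw [hw]
  rw [Finset.sum_congr rfl key, Finset.sum_const, smul_eq_mul]
  congr 1
  rw [← Fintype.card_subtype, ← Nat.card_eq_fintype_card, MulAction.index_stabilizer,
    ← Nat.card_coe_set_eq]
  refine Nat.card_congr (Equiv.subtypeEquivRight fun y => ?_)
  conv_lhs => rw [← Quotient.out_eq q, Quotient.eq]
  exact MulAction.orbitRel_apply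

/-- A weighted count is divisible by the group order when each weight is divisible by the order of
the stabilizer. -/
theorem card_dvd_sum {G : Type*} [Group G] [Finite G] {Ω : Type*} [Fintype Ω] [MulAction G Ω]
    (w : Ω → ℕ) (hw : ∀ (g : G) (x : Ω), w (g • x) = w x) (D : ℕ)
    (h : ∀ x, Nat.card (MulAction.stabilizer G x) ∣ D * w x) :
    Nat.card G ∣ D * ∑ x, w x := by
  obtain ⟨s, hs⟩ := exists_reps (G := G) Ω
  rw [hs w hw, Finset.mul_sum]
  refine Finset.dvd_sum fun x _ => ?_
  obtain ⟨k, hk⟩ := h x
  refine ⟨k, ?_⟩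
  rw [mul_left_comm, hk, ← mul_assoc, mul_comm (MulAction.stabilizer G x).index,
    Subgroup.card_mul_index]

end CfsgLib.BrauerFeit
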