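import Mathlib.Algebra.Order.Ring.Rat
import Mathlib.Algebra.BigOperators.Group.Multiset.Basic
import Mathlib.Tactic.Linarith
import Mathlib.Tactic.FieldSimp
import Mathlib.Tactic.Positivity
import Mathlib.Tactic.Ring

/-!
# A bound for an equation in unit fractions

If `1/N` differs from a sum of at most `r` unit fractions with denominators less than `N` by a
rational number of denominator `D`, then `N` is bounded in terms of `r` and `D`.
-/

namespace CfsgLib.BrauerFeit

/-- The bound. -/
def fracBound : ℕ → ℕ → ℕ
  | 0, D => D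
  | r + 1, D => max D (fracBound r (D * ((r + 1) * D)))

theorem fracBound_mono : ∀ r {D D' : ℕ}, D ≤ D' → fracBound r D ≤ fracBound r D'
  | 0, _, _, h => h
  | r + 1, D, D', h => by
      simp only [fracBound]
      exact max_le_max h (fracBound_mono r (Nat.mul_le_mul h (Nat.mul_le_mul le_rfl h)))

/-- The lemma. -/
theorem le_fracBound : ∀ (r : ℕ) (D : ℕ) (N : ℕ) (s : Multiset ℕ) (t : ℤ), 0 < D → 0 < N →
    s.card ≤ r → (∀ x ∈ s, 0 < x ∧ x < N) →
    (1 / (N : ℚ) + (t : ℚ) / (D : ℚ) = (s.map fun x : ℕ => 1 / (x : ℚ)).sum) →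
    N ≤ fracBound r D := by
  intro r
  induction r with
  | zero =>
    intro D N s t hD hN hs _ heq
    obtain rfl : s = 0 := Multiset.card_eq_zero.mp (Nat.le_zero.mp hs)
    simp only [Multiset.map_zero, Multiset.sum_zero] at heq
    have hDq : (0 : ℚ) < D := by exact_mod_cast hD
    have hNq : (0 : ℚ) < N := by exact_mod_cast hN
    field_simp at heq
    have heq' : (D : ℤ) + (N : ℤ) * t = 0 := by exact_mod_cast (by linarith : (D : ℚ) + N * t = 0)
    have : N ∣ D := by
      have : (N : ℤ) ∣ (D : ℤ) := ⟨-t, by linarith⟩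
      exact_mod_cast this
    exact Nat.le_of_dvd hD this
  | succ r ih =>
    intro D N s t hD hN hs hx heq
    have hDq : (0 : ℚ) < D := by exact_mod_cast hD
    have hNq : (0 : ℚ) < N := by exact_mod_cast hN
    rcases eq_or_ne s 0 with rfl | hs0
    · refine le_trans ?_ (le_max_right _ _)
      refine le_trans (ih D N 0 t hD hN (by simp) hx heq) (fracBound_mono r ?_)
      exact Nat.le_mul_of_pos_right _ (Nat.mul_pos (by omega) hD)
    by_cases hsmall : ∃ x ∈ s, x ≤ (r + 1) * D
    · obtain ⟨x, hxs, hxle⟩ := hsmall
      obtain ⟨s', rfl⟩ := Multiset.exists_cons_of_mem hxs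
      have hx0 := (hx x hxs).1
      have hxq : (0 : ℚ) < x := by exact_mod_cast hx0
      refine le_trans ?_ (le_max_right _ _)
      refine le_trans (ih (D * x) N s' (t * x - D) (Nat.mul_pos hD hx0) hN
        (by simpa using hs) (fun y hy => hx y (Multiset.mem_cons_of_mem hy)) ?_)
        (fracBound_mono r (Nat.mul_le_mul le_rfl hxle))
      rw [Multiset.map_cons, Multiset.sum_cons] at heq
      have : (((t * x - D : ℤ)) : ℚ) / ((D * x : ℕ) : ℚ) = (t : ℚ) / D - 1 / x := by
        push_cast
        field_simp
      rw [this]; linarith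
    · simp only [not_exists, not_and, not_le] at hsmall
      refine le_trans ?_ (le_max_left _ _)
      -- each summand is less than `1 / ((r+1) D)` and more than `1 / N`
      have hlt : (s.map fun x : ℕ => 1 / (x : ℚ)).sum < 1 / (D : ℚ) := by
        have h1 := Multiset.sum_lt_sum_of_nonempty (s := s)
          (f := fun x : ℕ => 1 / (x : ℚ)) (g := fun _ => 1 / (((r + 1) * D : ℕ) : ℚ)) hs0
          (fun x hxs => one_div_lt_one_div_of_lt (by positivity) (by exact_mod_cast hsmall x hxs))
        rw [Multiset.map_const', Multiset.sum_replicate, nsmul_eq_mul] at h1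
        refine h1.trans_le ?_
        have hc : (s.card : ℚ) ≤ (r + 1 : ℚ) := by exact_mod_cast hs
        push_cast
        rw [mul_one_div, div_le_div_iff₀ (by positivity) hDq, one_mul]
        exact mul_le_mul_of_nonneg_right hc hDq.le
      have hgt : 1 / (N : ℚ) < (s.map fun x : ℕ => 1 / (x : ℚ)).sum := by
        have h1 := Multiset.sum_lt_sum_of_nonempty (s := s)
          (g := fun x : ℕ => 1 / (x : ℚ)) (f := fun _ => 1 / (N : ℚ)) hs0
          (fun x hxs => one_div_lt_one_div_of_lt (by exact_mod_cast (hx x hxs).1)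
            (by exact_mod_cast (hx x hxs).2))
        rw [Multiset.map_const', Multiset.sum_replicate, nsmul_eq_mul] at h1
        refine lt_of_le_of_lt ?_ h1
        refine le_mul_of_one_le_left (by positivity) ?_
        exact_mod_cast Multiset.card_pos.mpr hs0
      have h1 : (0 : ℚ) < t / D := by linarith
      have h2 : (t : ℚ) / D < 1 / D := by
        have : (0 : ℚ) < 1 / N := by positivity
        linarith
      have h1' : (0 : ℚ) < t := by
        rcases div_pos_iff.mp h1 with ⟨a, _⟩ | ⟨_, b⟩
        · exact a
        · linarith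
      have h2' : (t : ℚ) < 1 := (div_lt_div_iff_of_pos_right hDq).mp h2
      have h1'' : (0 : ℤ) < t := by exact_mod_cast h1'
      have h2'' : (t : ℤ) < 1 := by exact_mod_cast h2'
      omega

end CfsgLib.BrauerFeit
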