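import Cfsg.Agent.Lib.BrauerFeit.Stable
import Cfsg.Agent.Lib.BrauerFeit.OrbitSum
import Cfsg.Agent.Lib.BrauerFeit.UnitFractions
import Mathlib.Data.Set.Card
import Mathlib.Algebra.BigOperators.Field
import Mathlib.Data.Nat.ChineseRemainder
import Mathlib.Tactic.LinearCombination
import Mathlib.Algebra.Order.BigOperators.Group.Finset
import Mathlib.GroupTheory.Sylow

/-!
# The class equation

The group modulo its centre is partitioned by the elements with small centralizer, the elements
attached to the abelian subgroups of stable elements and the `p`-singular elements; this bounds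
the index of the centre.
-/

namespace CfsgLib.BrauerFeit

open scoped Classical

variable {G : Type*} [Group G]

/-- The order bound of the local pieces. -/
def piece (f : ℕ) (b : ℕ → ℕ) (c : ℕ) : ℕ := c * (f * b (expo f))

/-- The common denominator. -/
def denom (f : ℕ) (b : ℕ → ℕ) (c : ℕ) : ℕ := (piece f b c + f).factorial

theorem dvd_card_of_invariant (A : Subgroup G) (Y : Set G)
    (h : ∀ x ∈ Y, ∀ a ∈ A, x * a ∈ Y) : Nat.card A ∣ Nat.card Y := by
  have hY : Y = QuotientGroup.mk ⁻¹' ((QuotientGroup.mk : G → G ⧸ A) '' Y) := by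
    refine Set.Subset.antisymm (Set.subset_preimage_image _ _) ?_
    rintro x ⟨y, hy, hxy⟩
    have := h y hy _ (QuotientGroup.eq.mp hxy)
    rwa [mul_inv_cancel_left] at this
  rw [hY, Nat.card_congr (QuotientGroup.preimageMkEquivSubgroupProdSet A _), Nat.card_prod]
  exact dvd_mul_right _ _

/-- Multiplying by an element of a normalised prime-to-`p` subgroup preserves prime-to-`p`. -/
theorem prime_to_mul {p : ℕ} (hp : p.Prime) {M : Subgroup G} (hM : ∀ a ∈ M, ¬ p ∣ orderOf a)
    {x : G} (hx : ∀ a ∈ M, x⁻¹ * a * x ∈ M) (hxp : ¬ p ∣ orderOf x) {a : G} (ha : a ∈ M) :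
    ¬ p ∣ orderOf (x * a) := by
  have key : ∀ n : ℕ, ∃ a' ∈ M, (x * a) ^ n = x ^ n * a' := by
    intro n
    induction n with
    | zero => exact ⟨1, M.one_mem, by simp⟩
    | succ n ih =>
      obtain ⟨a', ha', he⟩ := ih
      refine ⟨x⁻¹ * a' * x * a, M.mul_mem (hx a' ha') ha, ?_⟩
      rw [pow_succ, he, pow_succ]
      group
  obtain ⟨a', ha', he⟩ := key (orderOf x)
  rw [pow_orderOf_eq_one, one_mul] at he
  intro hd
  have h2 : (x * a) ^ (orderOf x * orderOf a') = 1 := by
    rw [pow_mul, he, pow_orderOf_eq_one]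
  rcases hp.dvd_mul.mp (hd.trans (orderOf_dvd_of_pow_eq_one h2)) with h | h
  · exact hxp h
  · exact hM a' ha' h

theorem orderOf_conj' (g x : G) : orderOf (g * x * g⁻¹) = orderOf x :=
  orderOf_injective (MulAut.conj g).toMonoidHom (MulAut.conj g).injective x

theorem conj_mem_center_iff (g x : G) :
    g * x * g⁻¹ ∈ Subgroup.center G ↔ x ∈ Subgroup.center G := by
  refine ⟨fun h => ?_, fun h => Subgroup.Normal.conj_mem inferInstance x h g⟩
  have := Subgroup.Normal.conj_mem (H := Subgroup.center G) inferInstance _ h g⁻¹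
  simpa [mul_assoc] using this

variable [Finite G] {p f : ℕ} {b : ℕ → ℕ} {c : ℕ}

theorem prime_to_mul_center (H : Hyp G p f b c) {x z : G} (hxp : ¬ p ∣ orderOf x)
    (hz : z ∈ Subgroup.center G) : ¬ p ∣ orderOf (x * z) :=
  prime_to_mul H.prime H.center_prime (fun a ha => by
    simpa using Subgroup.Normal.conj_mem (H := Subgroup.center G) inferInstance a ha x⁻¹) hxp hz

/-- Elements with no stable element in the centralizer. -/
def smallSet (G : Type*) [Group G] (p f : ℕ) : Set G :=
  {x | ¬ p ∣ orderOf x ∧ x ∉ Subgroup.center G ∧ ∀ t ∈ stable G p f, ¬ Commute x t}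

theorem small_card (H : Hyp G p f b c) :
    Nat.card G ∣ denom f b c * Nat.card (smallSet G p f) := by
  have : Fintype G := Fintype.ofFinite G
  let Z := Subgroup.center G
  letI act : MulAction G (G ⧸ Z) :=
    { smul := fun g q => (g : G ⧸ Z) * q * (g : G ⧸ Z)⁻¹
      one_smul := fun q => by
        show ((1 : G) : G ⧸ Z) * q * ((1 : G) : G ⧸ Z)⁻¹ = q
        simp
      mul_smul := fun g h q => by
        show ((g * h : G) : G ⧸ Z) * q * ((g * h : G) : G ⧸ Z)⁻¹ =
          (g : G ⧸ Z) * ((h : G ⧸ Z) * q * (h : G ⧸ Z)⁻¹) * (g : G ⧸ Z)⁻¹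
        rw [QuotientGroup.mk_mul, mul_inv_rev]
        group }
  have : Fintype (G ⧸ Z) := Fintype.ofFinite _
  let F : G ⧸ Z → Set G := fun q => {x | x ∈ smallSet G p f ∧ (x : G ⧸ Z) = q}
  have hconj : ∀ (g x : G), x ∈ smallSet G p f → g * x * g⁻¹ ∈ smallSet G p f := by
    rintro g x ⟨h1, h2, h3⟩
    refine ⟨by rwa [orderOf_conj'], fun h => h2 ((conj_mem_center_iff g x).mp h), ?_⟩
    intro t ht hc
    have hc' := commute_conj (g := g⁻¹) hc
    rw [show g⁻¹ * (g * x * g⁻¹) * g⁻¹⁻¹ = x from by group] at hc'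
    exact h3 _ (stable_conj g⁻¹ ht) hc'
  have hZ : ∀ x z : G, x ∈ smallSet G p f → z ∈ Z → x * z ∈ smallSet G p f := by
    rintro x z ⟨h1, h2, h3⟩ hz
    refine ⟨prime_to_mul_center H h1 hz, fun h => h2 ?_, fun t ht hc => h3 t ht ?_⟩
    · simpa using Z.mul_mem h (Z.inv_mem hz)
    · have := hc.mul_left ((mem_center_iff_commute.mp (Z.inv_mem hz) t).symm)
      simpa using this
  have hsum : Nat.card (smallSet G p f) = ∑ q, Nat.card (F q) := by
    rw [← Nat.card_sigma]
    refine Nat.card_congr ?_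
    exact
      { toFun := fun x => ⟨(x.1 : G ⧸ Z), ⟨x.1, x.2, rfl⟩⟩
        invFun := fun y => ⟨y.2.1, y.2.2.1⟩
        left_inv := fun x => rfl
        right_inv := by
          rintro ⟨q, x, hx, rfl⟩
          rfl }
  rw [hsum]
  refine card_dvd_sum _ (fun g q => ?_) _ fun q => ?_
  · refine Nat.card_congr (Equiv.subtypeEquiv (MulAut.conj g⁻¹).toEquiv fun x => ?_)
    show (x ∈ smallSet G p f ∧ (x : G ⧸ Z) = (g : G ⧸ Z) * q * (g : G ⧸ Z)⁻¹) ↔
      (g⁻¹ * x * g⁻¹⁻¹ ∈ smallSet G p f ∧ ((g⁻¹ * x * g⁻¹⁻¹ : G) : G ⧸ Z) = q)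
    rw [inv_inv, QuotientGroup.mk_mul, QuotientGroup.mk_mul, QuotientGroup.mk_inv]
    constructor
    · rintro ⟨h1, h2⟩
      exact ⟨by simpa using hconj g⁻¹ x h1, by rw [h2]; group⟩
    · rintro ⟨h1, h2⟩
      exact ⟨by simpa [mul_assoc] using hconj g _ h1, by rw [← h2]; group⟩
  · rcases Set.eq_empty_or_nonempty (F q) with he | ⟨x, hx, rfl⟩
    · rw [he, Nat.card_coe_set_eq, Set.ncard_empty, mul_zero]; exact dvd_zero _
    set St := MulAction.stabilizer G (x : G ⧸ Z) with hSt
    have hmem : ∀ g, g ∈ St ↔ (x⁻¹ * (g * x * g⁻¹)) ∈ Z := by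
      intro g
      rw [hSt, MulAction.mem_stabilizer_iff, ← QuotientGroup.eq]
      show ((g : G ⧸ Z) * (x : G ⧸ Z) * (g : G ⧸ Z)⁻¹ = (x : G ⧸ Z)) ↔ _
      rw [← QuotientGroup.mk_inv, ← QuotientGroup.mk_mul, ← QuotientGroup.mk_mul]
      exact eq_comm
    have hFcard : Nat.card (F (x : G ⧸ Z)) = Nat.card Z := by
      refine (Nat.card_congr ?_).symm
      exact
        { toFun := fun z => ⟨x * z, hZ x z hx z.2, QuotientGroup.eq.mpr (by
            simpa [mul_inv_rev] using Z.inv_mem z.2)⟩
          invFun := fun y => ⟨x⁻¹ * y.1, QuotientGroup.eq.mp y.2.2.symm⟩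
          left_inv := fun z => by simp
          right_inv := fun y => by simp }
    rw [hFcard]
    have hZSt : Z ≤ St := fun z hz => by
      rw [hmem, ← (mem_center_iff_commute.mp hz x).eq, mul_inv_cancel_right, inv_mul_cancel]
      exact Z.one_mem
    obtain ⟨k, hk⟩ := Subgroup.card_dvd_of_le hZSt
    rw [hk, mul_comm (Nat.card Z)]
    refine Nat.mul_dvd_mul ?_ dvd_rfl
    refine Nat.dvd_factorial (Nat.pos_of_ne_zero fun h0 => ?_) ?_
    · rw [h0, mul_zero] at hk
      exact Nat.card_pos.ne' hk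
    refine le_trans ?_ (Nat.le_add_right _ _)
    let A := Subgroup.closure (insert x (Z : Set G))
    have hgen : ∀ u ∈ insert x (Z : Set G), ∀ v ∈ insert x (Z : Set G), Commute u v := by
      rintro u (rfl | hu) v (rfl | hv)
      · exact Commute.refl _
      · exact mem_center_iff_commute.mp hv _
      · exact (mem_center_iff_commute.mp hu _).symm
      · exact mem_center_iff_commute.mp hv u
    have hAc : ∀ u ∈ A, ∀ v ∈ A, Commute u v := fun u hu v hv => closure_commute hgen hu hv
    have hAp : ∀ u ∈ A, ¬ p ∣ orderOf u := fun u hu => closure_prime_to H.prime hgen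
      (by
        rintro v (rfl | hv)
        · exact hx.1
        · exact H.center_prime v hv) hu
    have hle : St ≤ Subgroup.normalizer (A : Set G) := by
      intro g hg
      have hmap : A.map (MulAut.conj g).toMonoidHom = A := by
        refine Subgroup.eq_of_le_of_card_ge ?_
          (Subgroup.card_map_of_injective (MulAut.conj g).injective).ge
        rw [MonoidHom.map_closure, Subgroup.closure_le]
        rintro _ ⟨u, rfl | hu, rfl⟩
        · have h1 : u ∈ A := Subgroup.subset_closure (Set.mem_insert u _)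
          have h2 : u⁻¹ * (g * u * g⁻¹) ∈ A :=
            Subgroup.subset_closure (Set.mem_insert_of_mem _ ((hmem g).mp hg))
          have h3 := A.mul_mem h1 h2
          rwa [mul_inv_cancel_left] at h3
        · refine Subgroup.subset_closure (Set.mem_insert_of_mem _ ?_)
          exact Subgroup.Normal.conj_mem (H := Z) inferInstance u hu g
      rw [Subgroup.mem_normalizer_iff]
      intro n
      constructor
      · intro hn
        exact hmap.le ⟨n, hn, rfl⟩
      · intro hn
        rw [← hmap] at hn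
        obtain ⟨m, hm, hmn⟩ := hn
        rwa [← (MulAut.conj g).injective hmn]
    obtain ⟨M, hZM, hM, hn, hab, hMp, hcard⟩ := H.local_abelian x hx.2.1
    have hM2 : Nat.card M ≤ b (expo f) * Nat.card Z := by
      refine H.exponent_bound M hab hMp hZM _ (pow_pos (Nat.factorial_pos f) _) fun a ha => ?_
      by_contra hne
      obtain ⟨i, _, hst⟩ := exists_stable_pow H (hMp a ha) hne
      exact hx.2.2 _ hst ((mem_cen.mp (hM ha)).symm.pow_right _)
    have h1 : Nat.card St ≤ piece f b c * Nat.card Z := by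
      calc Nat.card St ≤ Nat.card (Subgroup.normalizer (A : Set G)) := Subgroup.card_le_of_le hle
        _ ≤ c * Nat.card (Subgroup.centralizer (A : Set G)) := H.normalizer_bound A hAc hAp
        _ ≤ c * Nat.card (cen x) := by
            refine Nat.mul_le_mul_left _ (Subgroup.card_le_of_le fun g hg => mem_cen.mpr ?_)
            exact (Subgroup.mem_centralizer_iff.mp hg x
              (Subgroup.subset_closure (Set.mem_insert x _))).symm
        _ ≤ c * (f * (b (expo f) * Nat.card Z)) :=
            Nat.mul_le_mul_left _ (hcard.trans (Nat.mul_le_mul_left _ hM2))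
        _ = piece f b c * Nat.card Z := by rw [piece]; ring
    rw [hk, mul_comm (piece f b c)] at h1
    exact Nat.le_of_mul_le_mul_left h1 Nat.card_pos

theorem singular_card (H : Hyp G p f b c) :
    Nat.card G ∣ denom f b c * Nat.card {x : G | p ∣ orderOf x} := by
  have : Fintype G := Fintype.ofFinite G
  obtain ⟨a, m, hpm, hG⟩ :=
    Nat.exists_eq_pow_mul_and_not_dvd (n := Nat.card G) Nat.card_pos.ne' p H.prime.ne_one
  have hcop : Nat.Coprime m (p ^ a) :=
    Nat.Coprime.pow_right _ ((H.prime.coprime_iff_not_dvd.mpr hpm).symm)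
  obtain ⟨r, hr1, hr2⟩ := Nat.chineseRemainder hcop 0 1
  have hmr : m ∣ r := (Nat.modEq_zero_iff_dvd).mp hr1
  have hy : ∀ y : G, ¬ p ∣ orderOf y ↔ y ^ m = 1 := by
    intro y
    constructor
    · intro hy
      refine orderOf_dvd_iff_pow_eq_one.mp ?_
      refine Nat.Coprime.dvd_of_dvd_mul_left
        (Nat.Coprime.pow_right a (H.prime.coprime_iff_not_dvd.mpr hy).symm) ?_
      rw [← hG]; exact orderOf_dvd_natCard y
    · intro hy hd
      exact hpm (hd.trans (orderOf_dvd_of_pow_eq_one hy))
  have hup : ∀ x : G, (x ^ r) ^ (p ^ a) = 1 := by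
    intro x
    rw [← pow_mul]
    obtain ⟨k, hk⟩ := hmr
    rw [hk, show m * k * p ^ a = (p ^ a * m) * k by ring, ← hG, pow_mul, pow_card_eq_one',
      one_pow]
  have hufix : ∀ u : G, u ^ (p ^ a) = 1 → u ^ r = u := by
    intro u hu
    conv_rhs => rw [← pow_one u]
    exact pow_eq_pow_iff_modEq.mpr (Nat.ModEq.of_dvd (orderOf_dvd_of_pow_eq_one hu) hr2)
  have hsing : ∀ x : G, p ∣ orderOf x ↔ x ^ r ≠ 1 := by
    intro x
    constructor
    · intro hd h1
      refine absurd hd ((hy x).mpr ?_)
      have h2 : x ^ (p ^ a * m) = 1 := by rw [← hG, pow_card_eq_one']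
      have hcd := Nat.dvd_gcd (orderOf_dvd_of_pow_eq_one h1) (orderOf_dvd_of_pow_eq_one h2)
      refine orderOf_dvd_iff_pow_eq_one.mp (hcd.trans ?_)
      have hrp : Nat.Coprime (Nat.gcd r (p ^ a * m)) (p ^ a) := by
        refine Nat.Coprime.coprime_dvd_left (Nat.gcd_dvd_left _ _) ?_
        unfold Nat.Coprime
        rw [Nat.gcd_comm, Nat.gcd_rec, hr2, ← Nat.gcd_rec, Nat.gcd_one_right]
      exact hrp.dvd_of_dvd_mul_left (Nat.gcd_dvd_right _ _)
    · intro h1
      by_contra hd
      obtain ⟨k, hk⟩ := hmr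
      exact h1 (by rw [hk, pow_mul, (hy x).mp hd, one_pow])
  letI act : MulAction G G :=
    { smul := fun g u => g * u * g⁻¹
      one_smul := fun u => by
        show (1 : G) * u * (1 : G)⁻¹ = u
        simp
      mul_smul := fun g h u => by
        show (g * h) * u * (g * h)⁻¹ = g * (h * u * h⁻¹) * g⁻¹
        group }
  let F : G → Set G := fun u => {x | p ∣ orderOf x ∧ x ^ r = u}
  have hsum : Nat.card {x : G | p ∣ orderOf x} = ∑ u, Nat.card (F u) := by
    rw [← Nat.card_sigma]
    refine Nat.card_congr ?_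
    exact
      { toFun := fun x => ⟨x.1 ^ r, ⟨x.1, x.2, rfl⟩⟩
        invFun := fun y => ⟨y.2.1, y.2.2.1⟩
        left_inv := fun x => rfl
        right_inv := by
          rintro ⟨q, x, hx, rfl⟩
          rfl }
  rw [hsum]
  refine card_dvd_sum _ (fun g u => ?_) _ fun u => ?_
  · refine Nat.card_congr (Equiv.subtypeEquiv (MulAut.conj g⁻¹).toEquiv fun x => ?_)
    show (p ∣ orderOf x ∧ x ^ r = g * u * g⁻¹) ↔
      (p ∣ orderOf (g⁻¹ * x * g⁻¹⁻¹) ∧ (g⁻¹ * x * g⁻¹⁻¹) ^ r = u)
    rw [orderOf_conj', conj_pow, inv_inv]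
    refine and_congr_right fun _ => ⟨fun h => by rw [h]; group, fun h => by rw [← h]; group⟩
  · rcases Set.eq_empty_or_nonempty (F u) with he | ⟨x, hxp, rfl⟩
    · rw [he, Nat.card_coe_set_eq, Set.ncard_empty, mul_zero]; exact dvd_zero _
    have hu1 : x ^ r ≠ 1 := (hsing x).mp hxp
    have hua : (x ^ r) ^ (p ^ a) = 1 := hup x
    set u := x ^ r with hu
    have hst : MulAction.stabilizer G u = cen u := by
      ext g
      rw [MulAction.mem_stabilizer_iff, mem_cen]
      show g * u * g⁻¹ = u ↔ g * u = u * g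
      exact mul_inv_eq_iff_eq_mul
    rw [hst]
    have huZ : u ∉ Subgroup.center G := fun hz => by
      have h1 := (hy u).mp (H.center_prime u hz)
      refine hu1 (orderOf_eq_one_iff.mp (Nat.eq_one_of_dvd_one ?_))
      rw [← hcop.gcd_eq_one]
      exact Nat.dvd_gcd (orderOf_dvd_of_pow_eq_one h1) (orderOf_dvd_of_pow_eq_one hua)
    have hF : Nat.card (F u) = Nat.card {y : G | Commute y u ∧ ¬ p ∣ orderOf y} := by
      refine Nat.card_congr
        { toFun := fun w => ⟨u⁻¹ * w.1, ?_, ?_⟩
          invFun := fun y => ⟨u * y.1, ?_, ?_⟩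
          left_inv := fun w => by simp
          right_inv := fun y => by simp }
      · have hc : Commute w.1 u := by
          have h := Commute.self_pow w.1 r
          rwa [w.2.2] at h
        exact (Commute.refl u).inv_left.mul_left hc
      · have hc : Commute u w.1 := by
          have h := Commute.pow_self w.1 r
          rwa [w.2.2] at h
        refine (hy _).mpr ?_
        rw [hc.inv_left.mul_pow, inv_pow]
        have e : u ^ m = w.1 ^ (r * m) := by rw [pow_mul, w.2.2]
        rw [e, inv_mul_eq_one]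
        refine pow_eq_pow_iff_modEq.mpr (Nat.ModEq.of_dvd (orderOf_dvd_natCard _) ?_)
        rw [hG]
        refine (Nat.modEq_and_modEq_iff_modEq_mul (hcop.symm)).mp ⟨?_, ?_⟩
        · simpa using hr2.mul_right m
        · exact ((Nat.modEq_zero_iff_dvd).mpr (dvd_mul_left m r)).trans
            ((Nat.modEq_zero_iff_dvd).mpr dvd_rfl).symm
      · refine (hsing _).mpr ?_
        rw [(show Commute u y.1 from y.2.1.symm).mul_pow, hufix u hua]
        obtain ⟨k, hk⟩ := hmr
        rw [hk, pow_mul, (hy _).mp y.2.2, one_pow, mul_one]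
        exact hu1
      · rw [(show Commute u y.1 from y.2.1.symm).mul_pow, hufix u hua]
        obtain ⟨k, hk⟩ := hmr
        rw [hk, pow_mul, (hy _).mp y.2.2, one_pow, mul_one]
    rw [hF]
    obtain ⟨M, _, hM, hn, _, hMp, hcard⟩ := H.local_abelian u huZ
    obtain ⟨j, hj⟩ := Subgroup.card_dvd_of_le hM
    have hjD : j ∣ denom f b c := by
      refine Nat.dvd_factorial (Nat.pos_of_ne_zero fun h0 => ?_) ?_
      · rw [h0, mul_zero] at hj
        exact Nat.card_pos.ne' hj
      · rw [hj, mul_comm f] at hcard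
        exact (Nat.le_of_mul_le_mul_left hcard Nat.card_pos).trans (Nat.le_add_left _ _)
    obtain ⟨k, hk⟩ := dvd_card_of_invariant M {y : G | Commute y u ∧ ¬ p ∣ orderOf y}
      (fun y hy' a ha => ⟨hy'.1.mul_left (mem_cen.mp (hM ha)),
        prime_to_mul H.prime hMp (fun a' ha' => by
          simpa using hn y⁻¹ (mem_cen.mpr hy'.1.inv_left) a' ha') hy'.2 ha⟩)
    rw [hj, hk, ← mul_assoc, mul_comm (denom f b c)]
    exact (Nat.mul_dvd_mul dvd_rfl hjD).trans (dvd_mul_right _ _)

/-- The elements attached to an abelian subgroup. -/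
def attached (p f : ℕ) (A : Subgroup G) : Set G :=
  {x | ¬ p ∣ orderOf x ∧ ∃ t ∈ stable G p f, t ∈ A ∧ Commute x t}

/-- The family of abelian subgroups of stable elements. -/
def tori (G : Type*) [Group G] (p f : ℕ) : Set (Subgroup G) := torus p f '' stable G p f

theorem index_center_le (H : Hyp G p f b c) :
    (Subgroup.center G).index ≤ fracBound (2 * piece f b c) (denom f b c) := by
  have : Fintype G := Fintype.ofFinite G
  set D := denom f b c with hD
  set Z := Subgroup.center G with hZdef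
  let Ω := tori G p f
  have : Fintype Ω := Fintype.ofFinite _
  have hcl : ∀ (g : G) (A : Subgroup G), A ∈ tori G p f →
      A.map (MulAut.conj g).toMonoidHom ∈ tori G p f := by
    rintro g _ ⟨s, hs, rfl⟩
    exact ⟨g * s * g⁻¹, stable_conj g hs, (torus_conj g s).symm⟩
  letI act : MulAction G Ω :=
    { smul := fun g A => ⟨A.1.map (MulAut.conj g).toMonoidHom, hcl g A.1 A.2⟩
      one_smul := fun A => Subtype.ext (by
        show A.1.map (MulAut.conj (1 : G)).toMonoidHom = A.1
        ext x
        simp)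
      mul_smul := fun g h A => Subtype.ext (by
        show A.1.map (MulAut.conj (g * h)).toMonoidHom =
          (A.1.map (MulAut.conj h).toMonoidHom).map (MulAut.conj g).toMonoidHom
        rw [Subgroup.map_map]
        congr 1
        ext x
        simp [mul_assoc]) }
  have hstab : ∀ A : Ω, MulAction.stabilizer G A = Subgroup.normalizer (A.1 : Set G) := by
    intro A
    ext g
    rw [MulAction.mem_stabilizer_iff, Subgroup.mem_normalizer_iff, Subtype.ext_iff]
    show A.1.map (MulAut.conj g).toMonoidHom = A.1 ↔ _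
    constructor
    · intro h n
      constructor
      · intro hn
        exact h.le ⟨n, hn, rfl⟩
      · intro hn
        rw [← h] at hn
        obtain ⟨m, hm, hmn⟩ := hn
        rwa [← (MulAut.conj g).injective hmn]
    · intro h
      refine Subgroup.eq_of_le_of_card_ge ?_
        (Subgroup.card_map_of_injective (MulAut.conj g).injective).ge
      rintro _ ⟨m, hm, rfl⟩
      exact (h m).mp hm
  -- properties of the tori
  have hsp : ∀ A : Ω, Z ≤ A.1 ∧ (∀ u ∈ A.1, ¬ p ∣ orderOf u) ∧
      (∀ u ∈ A.1, ∀ v ∈ A.1, Commute u v) ∧ (∀ t ∈ stable G p f, t ∈ A.1 → torus p f t = A.1) ∧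
      ¬ A.1 ≤ Z ∧ (∃ t ∈ stable G p f, t ∈ A.1) ∧
      Nat.card (Subgroup.normalizer (A.1 : Set G)) ≤ piece f b c * Nat.card A.1 := by
    rintro ⟨_, s, hs, rfl⟩
    exact ⟨center_le_torus s, torus_prime_to H hs, torus_commute H hs,
      fun t ht hm => torus_eq_of_mem H hs ht hm, torus_not_le_center hs,
      ⟨s, hs, self_mem_torus hs⟩, card_normalizer_torus_le H hs⟩
  have hnorm : ∀ (A : Ω) (x : G), x ∈ attached p f A.1 →
      ∀ a ∈ A.1, x⁻¹ * a * x ∈ A.1 := by
    intro A x hx a ha
    obtain ⟨_, t, ht, htA, hxt⟩ := hx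
    have hA := (hsp A).2.2.2.1 t ht htA
    rw [← hA] at ha ⊢
    have := torus_conj (p := p) (f := f) x⁻¹ t
    rw [inv_inv, hxt.inv_left.eq, mul_assoc, inv_mul_cancel, mul_one] at this
    refine this.le ⟨a, ha, ?_⟩
    simp
  have hattach : ∀ (A : Ω) (x : G), x ∈ attached p f A.1 → ∀ a ∈ A.1,
      x * a ∈ attached p f A.1 := by
    intro A x hx a ha
    obtain ⟨t, ht, htA, hxt⟩ := hx.2
    exact ⟨prime_to_mul H.prime (hsp A).2.1 (hnorm A x hx) hx.1 ha, t, ht, htA,
      hxt.mul_left ((hsp A).2.2.1 a ha t htA)⟩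
  have hZatt : ∀ (A : Ω), (Z : Set G) ⊆ attached p f A.1 := by
    intro A z hz
    obtain ⟨t, ht, htA⟩ := (hsp A).2.2.2.2.2.1
    exact ⟨H.center_prime z hz, t, ht, htA, (mem_center_iff_commute.mp hz t).symm⟩
  -- the attached elements
  let w : Ω → ℕ := fun A => Nat.card (attached p f A.1)
  have hw : ∀ (g : G) (A : Ω), w (g • A) = w A := by
    intro g A
    refine Nat.card_congr (Equiv.subtypeEquiv (MulAut.conj g⁻¹).toEquiv fun x => ?_)
    show x ∈ attached p f (A.1.map (MulAut.conj g).toMonoidHom) ↔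
      g⁻¹ * x * g⁻¹⁻¹ ∈ attached p f A.1
    constructor
    · rintro ⟨h1, t, ht, ⟨t', ht', rfl⟩, hc⟩
      refine ⟨by rwa [orderOf_conj'], t', ?_, ht', ?_⟩
      · have := stable_conj g⁻¹ ht
        simpa [mul_assoc] using this
      · have := commute_conj (g := g⁻¹) hc
        simpa [mul_assoc] using this
    · rintro ⟨h1, t, ht, htA, hc⟩
      rw [orderOf_conj'] at h1
      refine ⟨h1, g * t * g⁻¹, stable_conj g ht, ⟨t, htA, rfl⟩, ?_⟩
      have := commute_conj (g := g) hc
      simpa [mul_assoc] using this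
  have hAdvd : Nat.card G ∣ D * ∑ A, w A := by
    refine card_dvd_sum w hw D fun A => ?_
    rw [hstab]
    obtain ⟨k, hk⟩ := dvd_card_of_invariant A.1 (attached p f A.1) (hattach A)
    obtain ⟨j, hj⟩ := Subgroup.card_dvd_of_le
      (Subgroup.le_normalizer : A.1 ≤ Subgroup.normalizer (A.1 : Set G))
    have hjD : j ∣ D := by
      refine Nat.dvd_factorial (Nat.pos_of_ne_zero fun h0 => ?_) ?_
      · rw [h0, mul_zero] at hj
        exact Nat.card_pos.ne' hj
      · have h7 := (hsp A).2.2.2.2.2.2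
        rw [hj, mul_comm (piece f b c)] at h7
        exact (Nat.le_of_mul_le_mul_left h7 Nat.card_pos).trans (Nat.le_add_right _ _)
    show _ ∣ D * Nat.card (attached p f A.1)
    rw [hj, hk, ← mul_assoc, mul_comm D]
    exact (Nat.mul_dvd_mul dvd_rfl hjD).trans (dvd_mul_right _ _)
  -- the middle part of the partition
  let T : Set G := {x | ¬ p ∣ orderOf x ∧ x ∉ Z ∧ ∃ t ∈ stable G p f, Commute x t}
  have hT : Nat.card T = ∑ A : Ω, Nat.card (attached p f A.1 \ (Z : Set G) : Set G) := by
    rw [← Nat.card_sigma]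
    refine Nat.card_congr (Equiv.ofBijective
      (fun x : T => (⟨⟨torus p f x.2.2.2.choose, ⟨_, x.2.2.2.choose_spec.1, rfl⟩⟩,
        ⟨x.1, ⟨x.2.1, _, x.2.2.2.choose_spec.1, self_mem_torus x.2.2.2.choose_spec.1,
          x.2.2.2.choose_spec.2⟩, x.2.2.1⟩⟩ :
        Σ A : Ω, (attached p f A.1 \ (Z : Set G) : Set G))) ⟨?_, ?_⟩)
    · intro x y hxy
      exact Subtype.ext (congrArg (fun z : Σ A : Ω, (attached p f A.1 \ (Z : Set G) : Set G) =>
        z.2.1) hxy)
    · rintro ⟨A, x, ⟨hx1, t, ht, htA, hxt⟩, hxZ⟩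
      refine ⟨⟨x, hx1, hxZ, t, ht, hxt⟩, ?_⟩
      have hex : ∃ t ∈ stable G p f, Commute x t := ⟨t, ht, hxt⟩
      have heq : torus p f hex.choose = A.1 := by
        rw [← (hsp A).2.2.2.1 t ht htA]
        exact torus_eq_of_commute H hex.choose_spec.1 ht (commute_of_common H hxZ
          hex.choose_spec.1 ht hex.choose_spec.2.symm hxt.symm)
      refine Sigma.subtype_ext (Subtype.ext heq) rfl
  have hsplit : ∀ A : Ω,
      Nat.card (attached p f A.1 \ (Z : Set G) : Set G) + Nat.card Z = w A := by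
    intro A
    rw [show w A = (attached p f A.1).ncard from Nat.card_coe_set_eq _, Nat.card_coe_set_eq,
      show Nat.card Z = (Z : Set G).ncard from Nat.card_coe_set_eq _,
      Set.ncard_diff_add_ncard_of_subset (hZatt A)]
  have hpart : Nat.card G = Nat.card Z + Nat.card (smallSet G p f) + Nat.card T +
      Nat.card {x : G | p ∣ orderOf x} := by
    rw [show Nat.card Z = (Z : Set G).ncard from Nat.card_coe_set_eq _, Nat.card_coe_set_eq,
      Nat.card_coe_set_eq, Nat.card_coe_set_eq, ← Set.ncard_union_eq, ← Set.ncard_union_eq,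
      ← Set.ncard_union_eq, ← Set.ncard_univ]
    · congr 1
      ext x
      simp only [Set.mem_univ, Set.mem_union, true_iff, smallSet, T, Set.mem_ofPred_eq,
        SetLike.mem_coe]
      by_cases hd : p ∣ orderOf x
      · exact Or.inr hd
      by_cases hz : x ∈ Z
      · exact Or.inl (Or.inl (Or.inl hz))
      by_cases ht : ∃ t ∈ stable G p f, Commute x t
      · exact Or.inl (Or.inr ⟨hd, hz, ht⟩)
      · simp only [not_exists, not_and] at ht
        exact Or.inl (Or.inl (Or.inr ⟨hd, hz, ht⟩))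
    · rw [Set.disjoint_left]
      rintro x ((hx | hx) | hx) hd
      · exact H.center_prime x hx hd
      · exact hx.1 hd
      · exact hx.1 hd
    · rw [Set.disjoint_left]
      rintro x (hx | hx) hT'
      · exact hT'.2.1 hx
      · obtain ⟨t, ht, hc⟩ := hT'.2.2
        exact hx.2.2 t ht hc
    · rw [Set.disjoint_left]
      exact fun x hx hs => hs.2.1 hx
  -- the congruence
  have hNZ : Nat.card G = Z.index * Nat.card Z := (Subgroup.index_mul_card Z).symm
  obtain ⟨k1, hk1⟩ := small_card H
  obtain ⟨k2, hk2⟩ := singular_card H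
  obtain ⟨k3, hk3⟩ := hAdvd
  have hsumw : ∑ A, w A = Nat.card T + Fintype.card Ω * Nat.card Z := by
    rw [hT, ← Finset.card_univ, ← smul_eq_mul, ← Finset.sum_const, ← Finset.sum_add_distrib]
    exact Finset.sum_congr rfl fun A _ => (hsplit A).symm
  have hzpos : 0 < Nat.card Z := Nat.card_pos
  have hcong : ((D : ℤ) * ((Fintype.card Ω : ℤ) - 1)) =
      (Z.index : ℤ) * ((k1 : ℤ) + k2 + k3 - D) := by
    have e1 : ((D * Nat.card G + D * (Fintype.card Ω * Nat.card Z) : ℕ) : ℤ) =
        ((D * Nat.card Z + Nat.card G * (k1 + k2 + k3) : ℕ) : ℤ) := by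
      congr 1
      rw [mul_add (Nat.card G), mul_add (Nat.card G), ← hk1, ← hk2, ← hk3, hsumw]
      conv_lhs => rw [hpart]
      ring
    rw [hNZ] at e1
    push_cast at e1
    have hz : (0 : ℤ) < Nat.card Z := by exact_mod_cast hzpos
    apply mul_right_cancel₀ hz.ne'
    linear_combination e1
  -- orbit representatives
  obtain ⟨s, hs⟩ := exists_reps (G := G) Ω
  have hone : Fintype.card Ω = ∑ A ∈ s, (MulAction.stabilizer G A).index := by
    simpa using hs (fun _ => 1) (fun _ _ => rfl)
  let x : Ω → ℕ := fun A => Z.relIndex (Subgroup.normalizer (A.1 : Set G))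
  have hxmul : ∀ A : Ω, x A * (MulAction.stabilizer G A).index = Z.index := by
    intro A
    rw [hstab]
    exact Subgroup.relIndex_mul_index ((hsp A).1.trans Subgroup.le_normalizer)
  have hpos : 0 < Z.index := Nat.pos_of_ne_zero Subgroup.index_ne_zero_of_finite
  have hxlt : ∀ A : Ω, 0 < x A ∧ x A < Z.index := by
    intro A
    have h := hxmul A
    have hx0 : 0 < x A := Nat.pos_of_ne_zero fun h0 => by
      rw [h0, zero_mul] at h; omega
    refine ⟨hx0, ?_⟩
    have h2 : (MulAction.stabilizer G A).index ≠ 1 := by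
      rw [hstab, Ne, Subgroup.index_eq_one, Subgroup.normalizer_eq_top_iff]
      exact fun hn => (hsp A).2.2.2.2.1 (H.normal_central A.1 hn (hsp A).2.2.1 (hsp A).2.1)
    have h3 : (MulAction.stabilizer G A).index ≠ 0 := Subgroup.index_ne_zero_of_finite
    rw [← h]
    exact lt_mul_of_one_lt_right hx0 (by omega)
  refine le_fracBound _ _ _ (s.val.map x) ((k1 : ℤ) + k2 + k3 - D) (Nat.factorial_pos _) hpos
    ?_ ?_ ?_
  · rw [Multiset.card_map, Finset.card_val]
    let v : Ω → ℕ := fun A => Nat.card A.1 - Nat.card Z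
    have hv : ∀ (g : G) (A : Ω), v (g • A) = v A := fun g A => by
      show Nat.card (A.1.map (MulAut.conj g).toMonoidHom) - _ = Nat.card A.1 - _
      rw [Subgroup.card_map_of_injective (MulAut.conj g).injective]
    have htot : ∑ A, v A ≤ Nat.card G := by
      calc ∑ A, v A ≤ ∑ A : Ω, Nat.card (attached p f A.1 \ (Z : Set G) : Set G) := by
            refine Finset.sum_le_sum fun A _ => ?_
            have h1 := hsplit A
            have h2 : Nat.card A.1 ≤ w A := by
              show _ ≤ Nat.card (attached p f A.1)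
              refine Nat.card_mono (Set.toFinite _) fun a ha => ?_
              obtain ⟨t, ht, htA⟩ := (hsp A).2.2.2.2.2.1
              exact ⟨(hsp A).2.1 a ha, t, ht, htA, (hsp A).2.2.1 a ha t htA⟩
            show Nat.card A.1 - Nat.card Z ≤ _
            omega
        _ = Nat.card T := hT.symm
        _ ≤ Nat.card G := Finite.card_subtype_le _
    rw [hs v hv] at htot
    have hbig : ∀ A ∈ s, Nat.card G ≤
        2 * piece f b c * ((MulAction.stabilizer G A).index * v A) := by
      intro A _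
      have h7 := (hsp A).2.2.2.2.2.2
      have hlt : 2 * Nat.card Z ≤ Nat.card A.1 := by
        obtain ⟨j, hj⟩ := Subgroup.card_dvd_of_le (hsp A).1
        rcases j with _ | _ | j
        · rw [mul_zero] at hj; exact absurd hj Nat.card_pos.ne'
        · exact absurd (Subgroup.eq_of_le_of_card_ge (hsp A).1 (by rw [hj]; simp)).ge
            (hsp A).2.2.2.2.1
        · rw [hj, mul_comm]; exact Nat.mul_le_mul_left _ (by omega)
      have hi := Subgroup.index_mul_card (MulAction.stabilizer G A)
      rw [hstab] at hi ⊢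
      calc Nat.card G = _ := hi.symm
        _ ≤ (Subgroup.normalizer (A.1 : Set G)).index * (piece f b c * (2 * v A)) := by
            refine Nat.mul_le_mul_left _ (h7.trans (Nat.mul_le_mul_left _ ?_))
            show Nat.card A.1 ≤ 2 * (Nat.card A.1 - Nat.card Z)
            omega
        _ = _ := by ring
    have h := Finset.card_nsmul_le_sum s _ _ hbig
    rw [← Finset.mul_sum, smul_eq_mul] at h
    have h' := h.trans (Nat.mul_le_mul_left _ htot)
    exact Nat.le_of_mul_le_mul_right h' Nat.card_pos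
  · intro y hy
    obtain ⟨A, _, rfl⟩ := Multiset.mem_map.mp hy
    exact hxlt A
  · rw [Multiset.map_map]
    show _ = ∑ A ∈ s, (1 : ℚ) / (x A : ℚ)
    have hterm : ∀ A ∈ s, (1 : ℚ) / (x A : ℚ) =
        ((MulAction.stabilizer G A).index : ℚ) / (Z.index : ℚ) := by
      intro A _
      have h : (x A : ℚ) * ((MulAction.stabilizer G A).index : ℚ) = (Z.index : ℚ) := by
        exact_mod_cast hxmul A
      have hx0 : (x A : ℚ) ≠ 0 := by exact_mod_cast (hxlt A).1.ne'
      have hN0 : (Z.index : ℚ) ≠ 0 := by exact_mod_cast hpos.ne'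
      field_simp
      linarith
    rw [Finset.sum_congr rfl hterm, ← Finset.sum_div, ← Nat.cast_sum, ← hone]
    have hq : (D : ℚ) * ((Fintype.card Ω : ℚ) - 1) =
        (Z.index : ℚ) * ((k1 : ℚ) + k2 + k3 - D) := by exact_mod_cast hcong
    have hD0 : (D : ℚ) ≠ 0 := by exact_mod_cast (Nat.factorial_pos _).ne'
    have hN0 : (Z.index : ℚ) ≠ 0 := by exact_mod_cast hpos.ne'
    push_cast
    field_simp
    linarith

end CfsgLib.BrauerFeit
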