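import Cfsg.Agent.Lib.BrauerFeit.Reducible
import Cfsg.Agent.Lib.BrauerFeit.Count
import Mathlib.GroupTheory.Perm.Subgroup
import Mathlib.GroupTheory.GroupAction.Quotient
import Mathlib.Algebra.CharP.Reduced
import Mathlib.Algebra.Polynomial.Roots
import Mathlib.Tactic.LinearCombination

/-!
# The bound for linear groups with bounded Sylow `p`-subgroups
-/

namespace CfsgLib.BrauerFeit

open scoped Classical
open Module

universe u v

/-- The bound on the exponent classes. -/
def expBound (n e : ℕ) : ℕ := e ^ n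

/-- The bound on normalizers. -/
def normBound (n : ℕ) : ℕ := n ^ n

/-- The bound for the next dimension. -/
def nextBound (p m n f : ℕ) : ℕ :=
  max (redBound p m f) (max ((n + 1) * redBound p m f).factorial
    (fracBound (2 * piece (redBound p m f) (expBound (n + 1)) (normBound (n + 1)))
      (denom (redBound p m f) (expBound (n + 1)) (normBound (n + 1)))))

/-- The index of the core is bounded by the factorial of the index. -/
theorem index_normalCore_le {G : Type*} [Group G] [Finite G] (H : Subgroup G) :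
    H.normalCore.index ≤ H.index.factorial := by
  rw [Subgroup.normalCore_eq_ker, Subgroup.index_ker]
  refine (Finite.card_subtype_le _).trans ?_
  have : Fintype (G ⧸ H) := Fintype.ofFinite _
  rw [Subgroup.index_eq_card, Nat.card_eq_fintype_card, Nat.card_eq_fintype_card,
    Fintype.card_perm]

section Irreducible

variable {G : Type u} [Group G] [Finite G] {k : Type v} [Field k] [IsAlgClosed k] {V : Type v}
  [AddCommGroup V] [Module k V] [FiniteDimensional k V] {p : ℕ} [Fact p.Prime] [CharP k p]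
  {ρ : G →* Module.End k V}

omit [Finite G] in
theorem eigen_invariant {H : Subgroup G} {x : G} (hx : ∀ g ∈ H, Commute g x) (μ : k) :
    ∀ g ∈ H, ∀ w ∈ Module.End.eigenspace (ρ x) μ, ρ g w ∈ Module.End.eigenspace (ρ x) μ := by
  intro g hg w hw
  rw [Module.End.mem_eigenspace_iff] at hw ⊢
  rw [← Module.End.mul_apply, ← ((hx g hg).map ρ).eq, Module.End.mul_apply, hw, map_smul]

omit [Finite G] [Fact p.Prime] [CharP k p] in
theorem center_scalar (hirr : Irred ρ) {z : G} (hz : z ∈ Subgroup.center G) :
    ∃ μ : k, ρ z = μ • (1 : Module.End k V) := by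
  have := hirr.1
  obtain ⟨μ, hμ⟩ := Module.End.exists_eigenvalue (ρ z)
  refine ⟨μ, LinearMap.ext fun v => ?_⟩
  rcases hirr.2 _ (fun g w hw =>
    eigen_invariant (H := ⊤) (fun g _ => mem_center_iff_commute.mp hz g) μ g trivial w hw) with h | h
  · exact absurd h hμ
  · have : v ∈ Module.End.eigenspace (ρ z) μ := by rw [h]; trivial
    rw [Module.End.mem_eigenspace_iff] at this
    rw [this, LinearMap.smul_apply, Module.End.one_apply]

theorem center_prime_to (hρ : Function.Injective ρ) (hirr : Irred ρ) :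
    ∀ z ∈ Subgroup.center G, ¬ p ∣ orderOf z := by
  intro z hz hd
  have hp : p.Prime := Fact.out
  obtain ⟨j, hj⟩ := hd
  have hpos := orderOf_pos z
  obtain ⟨μ, hμ⟩ := center_scalar hirr ((Subgroup.center G).pow_mem hz j)
  have hzp : (z ^ j) ^ p = 1 := by rw [← pow_mul, mul_comm, ← hj, pow_orderOf_eq_one]
  have h1 : μ ^ p = 1 := by
    have := congrArg ρ hzp
    rw [map_pow, hμ, map_one, smul_pow, one_pow] at this
    obtain ⟨v, hv⟩ := @exists_ne V hirr.1 0
    have h := LinearMap.congr_fun this v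
    rw [LinearMap.smul_apply, Module.End.one_apply] at h
    exact smul_left_injective k hv (h.trans (one_smul k v).symm)
  have h2 : μ = 1 := frobenius_inj k p (by simpa [frobenius_def] using h1)
  have h3 : z ^ j = 1 := hρ (by rw [hμ, h2, one_smul, map_one])
  have := Nat.le_of_dvd (by
    rcases Nat.eq_zero_or_pos j with h | h
    · rw [h, mul_zero] at hj; omega
    · exact h) (orderOf_dvd_of_pow_eq_one h3)
  have := Nat.mul_le_mul_right j hp.two_le
  omega

theorem exponent_bound (hρ : Function.Injective ρ) (hirr : Irred ρ) {n : ℕ}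
    (hn : finrank k V ≤ n) (L : Subgroup G) (hL : ∀ a ∈ L, ∀ a' ∈ L, Commute a a')
    (hLp : ∀ a ∈ L, ¬ p ∣ orderOf a) (e : ℕ) (he : 0 < e)
    (hLe : ∀ a ∈ L, a ^ e ∈ Subgroup.center G) :
    Nat.card L ≤ expBound n e * Nat.card (Subgroup.center G) := by
  have := hirr.1
  have := finite_wt (ρ := ρ) hL hLp
  obtain ⟨χ₀⟩ := nonempty_wt (ρ := ρ) hL hLp
  have hne : ∀ (χ : Wt ρ L) (a : L), χ.1 a ≠ 0 := by
    intro χ a h0
    obtain ⟨v, hv, hv0⟩ := (Submodule.ne_bot_iff _).mp χ.2
    rw [mem_wsp] at hv
    have h := hv a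
    rw [h0, zero_smul] at h
    have := congrArg (ρ (a : G)⁻¹) h
    rw [← Module.End.mul_apply, ← map_mul, inv_mul_cancel, map_one, Module.End.one_apply,
      map_zero] at this
    exact hv0 this
  have hpow : ∀ (a : L) (χ : Wt ρ L), (χ.1 a / χ₀.1 a) ^ e = 1 := by
    intro a χ
    obtain ⟨μ, hμ⟩ := center_scalar hirr (hLe a a.2)
    have key : ∀ ψ : Wt ρ L, ψ.1 a ^ e = μ := by
      intro ψ
      obtain ⟨v, hv, hv0⟩ := (Submodule.ne_bot_iff _).mp ψ.2
      rw [mem_wsp] at hv
      have h1 : ∀ i : ℕ, ρ ((a : G) ^ i) v = ψ.1 a ^ i • v := by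
        intro i
        induction i with
        | zero => simp
        | succ i ih =>
          rw [pow_succ', map_mul, Module.End.mul_apply, ih, map_smul, hv a, smul_smul, ← pow_succ]
      have h2 := h1 e
      rw [hμ, LinearMap.smul_apply, Module.End.one_apply] at h2
      exact smul_left_injective k hv0 h2.symm
    rw [div_pow, key, key, div_self]
    rw [← key χ₀]; exact pow_ne_zero _ (hne χ₀ a)
  let R := {x : k // x ∈ Polynomial.nthRootsFinset e (1 : k)}
  let φ : L → (Wt ρ L → R) := fun a χ =>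
    ⟨χ.1 a / χ₀.1 a, (Polynomial.mem_nthRootsFinset he _).mpr (hpow a χ)⟩
  have hfib : ∀ a b : L, φ a = φ b → (a : G) * (b : G)⁻¹ ∈ Subgroup.center G := by
    intro a b hab
    have hsc : ρ (a : G) = (χ₀.1 a / χ₀.1 b) • ρ (b : G) := by
      refine ext_of_wsp (ρ := ρ) hL hLp fun χ v hv => ?_
      rw [mem_wsp] at hv
      rw [LinearMap.smul_apply, hv a, hv b, smul_smul]
      have h1 : χ.1 a / χ₀.1 a = χ.1 b / χ₀.1 b := congrArg Subtype.val (congrFun hab χ)
      congr 1
      rw [div_eq_div_iff (hne χ₀ a) (hne χ₀ b)] at h1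
      rw [div_mul_eq_mul_div, eq_div_iff (hne χ₀ b)]
      linear_combination h1
    have hsc' : ρ ((a : G) * (b : G)⁻¹) = (χ₀.1 a / χ₀.1 b) • (1 : Module.End k V) := by
      rw [map_mul, hsc, smul_mul_assoc, ← map_mul, mul_inv_cancel, map_one]
    rw [mem_center_iff_commute]
    intro g
    refine hρ ?_
    rw [map_mul ρ g, map_mul ρ _ g, hsc', mul_smul_comm, smul_mul_assoc, mul_one, one_mul]
  refine (card_le_of_fibres _ L φ hfib).trans (Nat.mul_le_mul_right _ ?_)
  rw [Nat.card_fun, expBound]
  have hR : Nat.card R ≤ e := by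
    rw [Nat.card_eq_fintype_card, Fintype.card_coe]
    refine le_trans ?_ (Polynomial.card_nthRoots e (1 : k))
    rw [Polynomial.nthRootsFinset_def]
    exact Multiset.toFinset_card_le _
  exact (Nat.pow_le_pow_left hR _).trans
    (Nat.pow_le_pow_right he ((card_wt_le (ρ := ρ) hL hLp).trans hn))

end Irreducible

theorem bounded_succ {p m n f : ℕ} [Fact p.Prime] (hb : Bounded.{u, v} p m n f) :
    Bounded.{u, v} p m (n + 1) (nextBound p m n f) := by
  intro G _ _ k _ _ _ V _ _ _ ρ hρ hn hG
  set R := redBound p m f with hR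
  rcases subsingleton_or_nontrivial V with hV | hV
  · have htriv : ∀ g : G, g = 1 := fun g =>
      hρ (LinearMap.ext fun v => Subsingleton.elim _ _)
    have hbot : (⊥ : Subgroup G) = ⊤ := by
      ext x; simp [htriv x]
    refine ⟨⊥, inferInstance, fun a ha b _ => ?_, fun a ha => ?_, ?_⟩
    · rw [htriv a]; exact Commute.one_left b
    · rw [htriv a, orderOf_one, Nat.dvd_one]; exact (Fact.out : p.Prime).one_lt.ne'
    · rw [hbot, Subgroup.index_top]
      exact le_trans (Nat.factorial_pos _) ((le_max_left _ _).trans (le_max_right _ _))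
  by_cases hred : ∃ W : Submodule k V, (∀ g, ∀ w ∈ W, ρ g w ∈ W) ∧ W ≠ ⊥ ∧ W ≠ ⊤
  · obtain ⟨W, hW, hW0, hW1⟩ := hred
    obtain ⟨A, h1, h2, h3, h4⟩ := reducible_step hb ρ hρ hn hG W hW hW0 hW1
    exact ⟨A, h1, h2, h3, h4.trans (le_max_left _ _)⟩
  have hirr : Irred ρ := ⟨hV, fun W hW => by
    by_contra hne
    simp only [not_or] at hne
    exact hred ⟨W, hW, hne.1, hne.2⟩⟩
  have hcp := center_prime_to (p := p) hρ hirr
  -- a subgroup with a proper invariant subspace
  have hsub : ∀ (H : Subgroup G) (W : Submodule k V), (∀ g ∈ H, ∀ w ∈ W, ρ g w ∈ W) → W ≠ ⊥ →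
      W ≠ ⊤ → ∃ A : Subgroup G, A ≤ H ∧ (∀ g ∈ H, ∀ a ∈ A, g * a * g⁻¹ ∈ A) ∧
        (∀ a ∈ A, ∀ b ∈ A, Commute a b) ∧ (∀ a ∈ A, ¬ p ∣ orderOf a) ∧
        Nat.card H ≤ R * Nat.card A := by
    intro H W hW hW0 hW1
    obtain ⟨A, h1, h2, h3, h4⟩ := reducible_step hb (ρ.comp H.subtype)
      (hρ.comp H.subtype_injective) hn (fun h => hG (h.trans (Subgroup.card_subgroup_dvd_card H)))
      W (fun g w hw => hW g g.2 w hw) hW0 hW1
    refine ⟨A.map H.subtype, Subgroup.map_subtype_le _, ?_, ?_, ?_, ?_⟩
    · rintro g hg _ ⟨a, ha, rfl⟩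
      exact ⟨⟨g, hg⟩ * a * ⟨g, hg⟩⁻¹, h1.conj_mem a ha ⟨g, hg⟩, rfl⟩
    · rintro _ ⟨a, ha, rfl⟩ _ ⟨b, hb', rfl⟩
      exact (h2 a ha b hb').map H.subtype
    · rintro _ ⟨a, ha, rfl⟩
      rw [orderOf_injective H.subtype H.subtype_injective]
      exact h3 a ha
    · rw [Subgroup.card_map_of_injective H.subtype_injective, ← Subgroup.card_mul_index A, mul_comm]
      exact Nat.mul_le_mul_right _ h4
  by_cases hab : ∃ A : Subgroup G, A.Normal ∧ (∀ a ∈ A, ∀ b ∈ A, Commute a b) ∧
      (∀ a ∈ A, ¬ p ∣ orderOf a) ∧ ¬ A ≤ Subgroup.center G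
  · obtain ⟨A, hAn, hAc, hAp, hAz⟩ := hab
    have := finite_wt (ρ := ρ) hAc hAp
    obtain ⟨χ₀⟩ := nonempty_wt (ρ := ρ) hAc hAp
    have hconj : ∀ (g : G) (a : A), g⁻¹ * a * g ∈ A := fun g a => by
      simpa using hAn.conj_mem a a.2 g⁻¹
    let H : Subgroup G :=
      { carrier := {g | ∀ a : A, χ₀.1 ⟨_, hconj g a⟩ = χ₀.1 a}
        one_mem' := fun a => by simp
        mul_mem' := fun {g h} hg hh a =>
          (congrArg χ₀.1 (Subtype.ext (by simp [mul_assoc]) :
            (⟨_, hconj (g * h) a⟩ : A) = ⟨_, hconj h ⟨_, hconj g a⟩⟩)).trans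
            ((hh ⟨_, hconj g a⟩).trans (hg a))
        inv_mem' := fun {g} hg a =>
          (hg ⟨_, hconj g⁻¹ a⟩).symm.trans
            (congrArg χ₀.1 (Subtype.ext (by simp [mul_assoc]))) }
    have hmove : ∀ (g : G) (v : V), v ∈ wsp ρ A χ₀.1 →
        ρ g v ∈ wsp ρ A (fun a => χ₀.1 ⟨_, hconj g a⟩) := by
      intro g v hv
      rw [mem_wsp] at hv ⊢
      intro a
      rw [← map_smul, ← hv ⟨_, hconj g a⟩, ← Module.End.mul_apply, ← Module.End.mul_apply,
        ← map_mul, ← map_mul]
      congr 2
      simp [mul_assoc]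
    have hW : ∀ g ∈ H, ∀ w ∈ wsp ρ A χ₀.1, ρ g w ∈ wsp ρ A χ₀.1 := by
      intro g hg w hw
      have := hmove g w hw
      rwa [show (fun a => χ₀.1 ⟨_, hconj g a⟩) = χ₀.1 from funext hg] at this
    have hW1 : wsp ρ A χ₀.1 ≠ ⊤ := by
      intro htop
      apply hAz
      intro a ha
      rw [mem_center_iff_commute]
      intro g
      have hsc : ρ a = χ₀.1 ⟨a, ha⟩ • (1 : Module.End k V) := LinearMap.ext fun v => by
        rw [LinearMap.smul_apply, Module.End.one_apply]
        exact (mem_wsp ρ).mp (show v ∈ wsp ρ A χ₀.1 by rw [htop]; trivial) ⟨a, ha⟩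
      refine hρ ?_
      rw [map_mul, map_mul, hsc, mul_smul_comm, smul_mul_assoc, mul_one, one_mul]
    have hidx : Nat.card G ≤ (n + 1) * Nat.card H := by
      have hne : ∀ g : G, wsp ρ A (fun a => χ₀.1 ⟨_, hconj g a⟩) ≠ ⊥ := by
        intro g
        obtain ⟨v, hv, hv0⟩ := (Submodule.ne_bot_iff _).mp χ₀.2
        refine (Submodule.ne_bot_iff _).mpr ⟨ρ g v, hmove g v hv, fun h0 => hv0 ?_⟩
        have := congrArg (ρ g⁻¹) h0
        rwa [map_zero, ← Module.End.mul_apply, ← map_mul, inv_mul_cancel, map_one,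
          Module.End.one_apply] at this
      let φ : (⊤ : Subgroup G) → Wt ρ A := fun g => ⟨_, hne (g : G)⁻¹⟩
      have hfib : ∀ g g' : (⊤ : Subgroup G), φ g = φ g' → (g : G) * (g' : G)⁻¹ ∈ H := by
        intro g g' h
        rw [← H.inv_mem_iff]
        intro a
        have h1 := congrFun (congrArg Subtype.val h) ⟨_, hconj (g' : G) a⟩
        refine (congrArg χ₀.1 (Subtype.ext ?_)).trans (h1.trans (congrArg χ₀.1 (Subtype.ext ?_)))
        · simp [mul_assoc]
        · simp [mul_assoc]
      have := card_le_of_fibres H ⊤ φ hfib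
      rw [Subgroup.card_top] at this
      exact this.trans (Nat.mul_le_mul_right _ ((card_wt_le (ρ := ρ) hAc hAp).trans hn))
    obtain ⟨B, _, _, hBc, hBp, hBi⟩ := hsub H _ hW χ₀.2 hW1
    refine ⟨B.normalCore, B.normalCore_normal,
      fun a ha b hb' => hBc a (B.normalCore_le ha) b (B.normalCore_le hb'),
      fun a ha => hBp a (B.normalCore_le ha), ?_⟩
    refine le_trans ?_ ((le_max_left _ _).trans (le_max_right _ _))
    refine (index_normalCore_le B).trans (Nat.factorial_le ?_)
    have h1 := Subgroup.card_mul_index B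
    have h2 : Nat.card B * B.index ≤ Nat.card B * ((n + 1) * R) := by
      rw [h1]
      calc Nat.card G ≤ (n + 1) * Nat.card H := hidx
        _ ≤ (n + 1) * (R * Nat.card B) := Nat.mul_le_mul_left _ hBi
        _ = Nat.card B * ((n + 1) * R) := by ring
    exact Nat.le_of_mul_le_mul_left h2 Nat.card_pos
  simp only [not_exists, not_and, not_not] at hab
  have H : Hyp G p R (expBound (n + 1)) (normBound (n + 1)) :=
    { prime := Fact.out
      center_prime := hcp
      local_abelian := by
        intro x hx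
        obtain ⟨μ, hμ⟩ := Module.End.exists_eigenvalue (ρ x)
        have hW1 : Module.End.eigenspace (ρ x) μ ≠ ⊤ := by
          intro htop
          apply hx
          rw [mem_center_iff_commute]
          intro g
          have hsc : ρ x = μ • (1 : Module.End k V) := LinearMap.ext fun v => by
            rw [LinearMap.smul_apply, Module.End.one_apply]
            exact Module.End.mem_eigenspace_iff.mp
              (show v ∈ Module.End.eigenspace (ρ x) μ by rw [htop]; trivial)
          refine hρ ?_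
          rw [map_mul, map_mul, hsc, mul_smul_comm, smul_mul_assoc, mul_one, one_mul]
        obtain ⟨A, hA, hAn, hAc, hAp, hAi⟩ := hsub (cen x) _
          (eigen_invariant (fun g hg => mem_cen.mp hg) μ) hμ hW1
        have hgen : ∀ u ∈ (A : Set G) ∪ Subgroup.center G, ∀ v ∈ (A : Set G) ∪ Subgroup.center G,
            Commute u v := by
          rintro u (hu | hu) v (hv | hv)
          · exact hAc u hu v hv
          · exact mem_center_iff_commute.mp hv u
          · exact (mem_center_iff_commute.mp hu v).symm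
          · exact mem_center_iff_commute.mp hv u
        refine ⟨Subgroup.closure ((A : Set G) ∪ Subgroup.center G),
          fun z hz => Subgroup.subset_closure (Or.inr hz), ?_, ?_,
          fun a ha b hb' => closure_commute hgen ha hb',
          fun a ha => closure_prime_to Fact.out hgen (by
            rintro u (hu | hu)
            · exact hAp u hu
            · exact hcp u hu) ha,
          hAi.trans (Nat.mul_le_mul_left _ (Subgroup.card_le_of_le
            fun a ha => Subgroup.subset_closure (Or.inl ha)))⟩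
        · rw [Subgroup.closure_le]
          rintro u (hu | hu)
          · exact hA hu
          · exact mem_cen.mpr (mem_center_iff_commute.mp hu x).symm
        · intro g hg a ha
          induction ha using Subgroup.closure_induction with
          | mem u hu =>
            rcases hu with hu | hu
            · exact Subgroup.subset_closure (Or.inl (hAn g hg u hu))
            · exact Subgroup.subset_closure (Or.inr
                (Subgroup.Normal.conj_mem (H := Subgroup.center G) inferInstance u hu g))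
          | one => simp
          | mul a b _ _ h1 h2 => simpa [mul_assoc] using Subgroup.mul_mem _ h1 h2
          | inv a _ h1 => simpa [mul_assoc] using Subgroup.inv_mem _ h1
      exponent_bound := fun L h1 h2 _ e h3 h4 => exponent_bound hρ hirr hn L h1 h2 e h3 h4
      normalizer_bound := fun A h1 h2 => by
        refine (card_normalizer_le (ρ := ρ) h1 h2 hρ).trans (Nat.mul_le_mul_right _ ?_)
        have hpos : 0 < finrank k V := Module.finrank_pos
        exact (Nat.pow_le_pow_left hn _).trans (Nat.pow_le_pow_right (Nat.succ_pos n) hn)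
      normal_central := fun A h1 h2 h3 => hab A h1 h2 h3 }
  refine ⟨Subgroup.center G, inferInstance, fun a _ b hb' => mem_center_iff_commute.mp hb' a,
    hcp, ?_⟩
  exact (index_center_le H).trans ((le_max_right _ _).trans (le_max_right _ _))

theorem exists_bounded (p m : ℕ) [Fact p.Prime] : ∀ n, ∃ f, Bounded.{u, v} p m n f
  | 0 => ⟨1, fun G _ _ k _ _ _ V _ _ _ ρ hρ hn hG => by
      have hV : Subsingleton V := Module.finrank_zero_iff.mp (Nat.le_zero.mp hn)
      have htriv : ∀ g : G, g = 1 := fun g => hρ (LinearMap.ext fun v => Subsingleton.elim _ _)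
      refine ⟨⊤, inferInstance, fun a _ b _ => ?_, fun a _ => ?_, by rw [Subgroup.index_top]⟩
      · rw [htriv a]; exact Commute.one_left b
      · rw [htriv a, orderOf_one, Nat.dvd_one]; exact (Fact.out : p.Prime).one_lt.ne'⟩
  | n + 1 => by
      obtain ⟨f, hf⟩ := exists_bounded p m n
      exact ⟨_, bounded_succ hf⟩

end CfsgLib.BrauerFeit
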