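import Cfsg.Agent.Lib.BrauerFeit.Weights
import Mathlib.GroupTheory.PGroup
import Mathlib.GroupTheory.Sylow
import Mathlib.LinearAlgebra.Quotient.Basic
import Mathlib.LinearAlgebra.Dimension.RankNullity
import Mathlib.Algebra.Group.End
import Mathlib.GroupTheory.QuotientGroup.Basic
import Mathlib.Tactic.Ring
import Mathlib.Tactic.Abel
import Mathlib.Tactic.Group

/-!
# The bound for reducible groups
-/

namespace CfsgLib.BrauerFeit

open scoped Classical
open Module

universe u v

/-- Linear groups of dimension at most `n` over algebraically closed fields of characteristic `p`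
whose order is not divisible by `p ^ (m + 1)` have an abelian normal prime-to-`p` subgroup of index
at most `f`. -/
def Bounded (p m n f : ℕ) : Prop :=
  ∀ (G : Type u) [Group G] [Finite G] (k : Type v) [Field k] [IsAlgClosed k] [CharP k p]
    (V : Type v) [AddCommGroup V] [Module k V] [FiniteDimensional k V]
    (ρ : G →* Module.End k V), Function.Injective ρ → finrank k V ≤ n →
    ¬ p ^ (m + 1) ∣ Nat.card G → ∃ A : Subgroup G, A.Normal ∧
      (∀ a ∈ A, ∀ b ∈ A, Commute a b) ∧ (∀ a ∈ A, ¬ p ∣ orderOf a) ∧ A.index ≤ f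

/-- The bound obtained for reducible groups. -/
def redBound (p m f : ℕ) : ℕ := f * f * (p ^ m) ^ (p ^ m) * p ^ m

/-- A prime-to-`p` abelian normal subgroup of the image pulls back. -/
theorem exists_pullback {p m n f : ℕ} (hb : Bounded.{u, v} p m n f) {G : Type u} [Group G]
    [Finite G] {k : Type v} [Field k] [IsAlgClosed k] [CharP k p] {V : Type v} [AddCommGroup V]
    [Module k V] [FiniteDimensional k V] (σ : G →* Module.End k V) (hn : finrank k V ≤ n)
    (hG : ¬ p ^ (m + 1) ∣ Nat.card G) :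
    ∃ B : Subgroup G, B.Normal ∧ B.index ≤ f ∧
      ∀ a ∈ B, ∀ b ∈ B, σ (a * b) = σ (b * a) ∧
        ∃ o : ℕ, ¬ p ∣ o ∧ σ (a ^ o) = 1 := by
  let τ : G →* (Module.End k V)ˣ := σ.toHomUnits
  let K := τ.ker
  let ρ : G ⧸ K →* Module.End k V := (Units.coeHom _).comp (QuotientGroup.kerLift τ)
  have hρ : Function.Injective ρ := fun x y h => QuotientGroup.kerLift_injective τ (Units.ext h)
  have hQ : ¬ p ^ (m + 1) ∣ Nat.card (G ⧸ K) := fun h =>
    hG (h.trans (Subgroup.card_quotient_dvd_card K))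
  obtain ⟨A, hAn, hAc, hAp, hAi⟩ := hb (G ⧸ K) k V ρ hρ hn hQ
  refine ⟨A.comap (QuotientGroup.mk' K), inferInstance, ?_, ?_⟩
  · rwa [Subgroup.index_comap_of_surjective _ (QuotientGroup.mk'_surjective K)]
  have hσ : ∀ g : G, σ g = ρ (QuotientGroup.mk g) := fun g => by
    show σ g = ((τ g : (Module.End k V)ˣ) : Module.End k V)
    rfl
  intro a ha b hb
  refine ⟨?_, orderOf (QuotientGroup.mk' K a), hAp _ ha, ?_⟩
  · rw [hσ, hσ]
    exact congrArg ρ (hAc _ ha _ hb).eq
  · rw [hσ, QuotientGroup.mk_pow]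
    show ρ ((QuotientGroup.mk' K a) ^ orderOf (QuotientGroup.mk' K a)) = 1
    rw [pow_orderOf_eq_one, map_one]

theorem one_add_pow {R : Type*} [Ring R] {N : R} (hN : N * N = 0) :
    ∀ i : ℕ, (1 + N) ^ i = 1 + i • N
  | 0 => by simp
  | i + 1 => by
      rw [pow_succ, one_add_pow hN i]
      rw [mul_add, mul_one, add_mul, one_mul, smul_mul_assoc, hN, smul_zero, add_zero, succ_nsmul]
      abel

/-- The reducible case. -/
theorem reducible_step {p m n f : ℕ} [Fact p.Prime] (hb : Bounded.{u, v} p m n f) {G : Type u}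
    [Group G] [Finite G] {k : Type v} [Field k] [IsAlgClosed k] [CharP k p] {V : Type v}
    [AddCommGroup V] [Module k V] [FiniteDimensional k V] (ρ : G →* Module.End k V)
    (hρ : Function.Injective ρ) (hn : finrank k V ≤ n + 1) (hG : ¬ p ^ (m + 1) ∣ Nat.card G)
    (W : Submodule k V) (hW : ∀ g, ∀ w ∈ W, ρ g w ∈ W) (hW0 : W ≠ ⊥) (hW1 : W ≠ ⊤) :
    ∃ A : Subgroup G, A.Normal ∧ (∀ a ∈ A, ∀ b ∈ A, Commute a b) ∧ (∀ a ∈ A, ¬ p ∣ orderOf a) ∧
      A.index ≤ redBound p m f := by
  have hp : p.Prime := Fact.out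
  have h0 : 0 < finrank k W := by
    rw [pos_iff_ne_zero, Ne, Submodule.finrank_eq_zero]; exact hW0
  have h1 : finrank k W < finrank k V := Submodule.finrank_lt hW1
  have h2 := Submodule.finrank_quotient_add_finrank W
  let σ₁ : G →* Module.End k W :=
    { toFun := fun g => (ρ g).restrict (hW g)
      map_one' := LinearMap.ext fun x => Subtype.ext (by simp)
      map_mul' := fun g h => LinearMap.ext fun x => Subtype.ext (by simp) }
  let σ₂ : G →* Module.End k (V ⧸ W) :=
    { toFun := fun g => W.mapQ W (ρ g) (hW g)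
      map_one' := Submodule.linearMap_qext _ (LinearMap.ext fun x => by simp)
      map_mul' := fun g h => Submodule.linearMap_qext _ (LinearMap.ext fun x => by simp) }
  obtain ⟨B₁, hB₁n, hB₁i, hB₁⟩ := exists_pullback hb σ₁ (by omega) hG
  obtain ⟨B₂, hB₂n, hB₂i, hB₂⟩ := exists_pullback hb σ₂ (by omega) hG
  let U : Subgroup G := σ₁.ker ⊓ σ₂.ker
  have hUn : U.Normal := by
    constructor
    rintro x ⟨hx1, hx2⟩ g
    replace hx1 : σ₁ x = 1 := hx1
    replace hx2 : σ₂ x = 1 := hx2
    refine ⟨?_, ?_⟩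
    · show σ₁ (g * x * g⁻¹) = 1
      rw [map_mul, map_mul, hx1, mul_one, ← map_mul, mul_inv_cancel, map_one]
    · show σ₂ (g * x * g⁻¹) = 1
      rw [map_mul, map_mul, hx2, mul_one, ← map_mul, mul_inv_cancel, map_one]
  have hUp : ∀ x ∈ U, x ^ p = 1 := by
    intro x hx
    obtain ⟨hx1, hx2⟩ := hx
    replace hx1 : σ₁ x = 1 := hx1
    replace hx2 : σ₂ x = 1 := hx2
    have hsq : (ρ x - 1) * (ρ x - 1) = 0 := by
      refine LinearMap.ext fun v => ?_
      have hmem : (ρ x - 1) v ∈ W := by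
        have := LinearMap.congr_fun hx2 (Submodule.Quotient.mk v)
        simp only [σ₂, MonoidHom.coe_mk, OneHom.coe_mk, Submodule.mapQ_apply,
          Module.End.one_apply] at this
        simpa using (Submodule.Quotient.eq W).mp this
      have := congrArg Subtype.val (LinearMap.congr_fun hx1 ⟨_, hmem⟩)
      simp only [σ₁, MonoidHom.coe_mk, OneHom.coe_mk, LinearMap.restrict_coe_apply,
        Module.End.one_apply] at this
      rw [Module.End.mul_apply, LinearMap.zero_apply, LinearMap.sub_apply (ρ x), this,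
        Module.End.one_apply, sub_self]
    apply hρ
    rw [map_pow, map_one, show ρ x = 1 + (ρ x - 1) by abel, one_add_pow hsq, ← Nat.cast_smul_eq_nsmul k,
      CharP.cast_eq_zero, zero_smul, add_zero]
  have hUcard : Nat.card U ≤ p ^ m := by
    have hUg : IsPGroup p U := fun x => ⟨1, Subtype.ext (by
      rw [pow_one]; exact_mod_cast hUp x.1 x.2)⟩
    obtain ⟨i, hi⟩ := IsPGroup.iff_card.mp hUg
    rw [hi]
    refine Nat.pow_le_pow_right hp.pos ?_
    by_contra hlt
    exact hG (((Nat.pow_dvd_pow p (by omega)).trans hi.symm.dvd).trans (Subgroup.card_subgroup_dvd_card U))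
  let θ : G →* MulAut U := MulAut.conjNormal
  let B₃ : Subgroup G := θ.ker
  have hB₃i : B₃.index ≤ (p ^ m) ^ (p ^ m) := by
    rw [Subgroup.index_ker]
    refine (Finite.card_subtype_le _).trans ?_
    refine (Nat.card_le_card_of_injective (fun e : MulAut U => (e : U → U))
      DFunLike.coe_injective).trans ?_
    rw [Nat.card_fun]
    exact (Nat.pow_le_pow_left hUcard _).trans
      (Nat.pow_le_pow_right (pow_pos hp.pos _) hUcard)
  let B : Subgroup G := B₁ ⊓ B₂ ⊓ B₃
  have hBn : B.Normal := inferInstance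
  have hBc : ∀ a ∈ B, ∀ b ∈ B, Commute a b := by
    rintro a ⟨⟨ha1, ha2⟩, ha3⟩ b ⟨⟨hb1, hb2⟩, hb3⟩
    have hcentral : ∀ x : G, x ∈ B₃ → ∀ u ∈ U, Commute x u := by
      intro x hx u hu
      have := congrArg Subtype.val
        (MulEquiv.congr_fun (MonoidHom.mem_ker.mp hx) (⟨u, hu⟩ : U))
      rw [MulAut.conjNormal_apply, MulAut.one_apply] at this
      exact mul_inv_eq_iff_eq_mul.mp this
    set c := a * b * a⁻¹ * b⁻¹ with hc
    have hσc : ∀ {k' : Type v} [AddCommGroup k'] [Module k k'] (σ : G →* Module.End k k'),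
        σ (a * b) = σ (b * a) → σ c = 1 := by
      intro k' _ _ σ h
      rw [hc, map_mul, map_mul, h, ← map_mul, ← map_mul]
      simp [mul_assoc]
    have hcU : c ∈ U := ⟨MonoidHom.mem_ker.mpr (hσc σ₁ (hB₁ a ha1 b hb1).1),
      MonoidHom.mem_ker.mpr (hσc σ₂ (hB₂ a ha2 b hb2).1)⟩
    have hac : Commute a c := hcentral a ha3 c hcU
    have key : ∀ j : ℕ, a ^ j * b = c ^ j * b * a ^ j := by
      intro j
      induction j with
      | zero => simp
      | succ j ih =>
        rw [pow_succ' a, mul_assoc, ih]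
        calc a * (c ^ j * b * a ^ j) = (a * c ^ j) * b * a ^ j := by group
          _ = c ^ j * a * b * a ^ j := by rw [(hac.pow_right j).eq]
          _ = c ^ j * (c * b * a) * a ^ j := by rw [hc]; group
          _ = c ^ (j + 1) * b * (a * a ^ j) := by rw [pow_succ]; group
    obtain ⟨o₁, ho₁, he₁⟩ := (hB₁ a ha1 b hb1).2
    obtain ⟨o₂, ho₂, he₂⟩ := (hB₂ a ha2 b hb2).2
    have heU : a ^ (o₁ * o₂) ∈ U :=
      ⟨MonoidHom.mem_ker.mpr (by rw [pow_mul, map_pow, he₁, one_pow]),
        MonoidHom.mem_ker.mpr (by rw [mul_comm, pow_mul, map_pow, he₂, one_pow])⟩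
    have hce : c ^ (o₁ * o₂) = 1 := by
      have h := key (o₁ * o₂)
      rw [← (hcentral b hb3 _ heU).eq, mul_assoc] at h
      exact mul_eq_right.mp h.symm
    have hcop : Nat.Coprime (o₁ * o₂) p := by
      refine (hp.coprime_iff_not_dvd.mpr fun h => ?_).symm
      rcases hp.dvd_mul.mp h with h | h
      · exact ho₁ h
      · exact ho₂ h
    have hc1 : c = 1 := orderOf_eq_one_iff.mp (Nat.eq_one_of_dvd_one (hcop.gcd_eq_one ▸
      Nat.dvd_gcd (orderOf_dvd_of_pow_eq_one hce) (orderOf_dvd_of_pow_eq_one (hUp c hcU))))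
    rw [hc, mul_inv_eq_one, mul_inv_eq_iff_eq_mul] at hc1
    exact hc1
  let pw : B →* G :=
    { toFun := fun x => (x : G) ^ (p ^ m)
      map_one' := by simp
      map_mul' := fun x y => by rw [Subgroup.coe_mul, (hBc x x.2 y y.2).mul_pow] }
  let A : Subgroup G := pw.range
  have hAB : A ≤ B := by
    rintro _ ⟨x, rfl⟩
    exact B.pow_mem x.2 _
  refine ⟨A, ⟨?_⟩, fun a ha b hb' => hBc a (hAB ha) b (hAB hb'), ?_, ?_⟩
  · rintro _ ⟨x, rfl⟩ g
    exact ⟨⟨g * x * g⁻¹, hBn.conj_mem x.1 x.2 g⟩, conj_pow⟩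
  · rintro _ ⟨x, rfl⟩ hd
    have hd' : p ∣ orderOf ((x : G) ^ (p ^ m)) := hd
    rw [orderOf_pow] at hd'
    obtain ⟨i, o, ho, hi⟩ := Nat.exists_eq_pow_mul_and_not_dvd
      (orderOf_pos (x : G)).ne' p hp.ne_one
    have him : i ≤ m := by
      by_contra hlt
      exact hG (((Nat.pow_dvd_pow p (by omega)).trans (Dvd.intro o hi.symm)).trans
        (orderOf_dvd_natCard _))
    have hg : Nat.gcd (orderOf (x : G)) (p ^ m) = p ^ i := by
      obtain ⟨j, rfl⟩ := Nat.exists_eq_add_of_le him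
      rw [hi, pow_add, Nat.gcd_mul_left]
      have : Nat.gcd o (p ^ j) = 1 :=
        Nat.Coprime.pow_right j (hp.coprime_iff_not_dvd.mpr ho).symm
      rw [this, mul_one]
    rw [hg, hi, Nat.mul_div_cancel_left _ (pow_pos hp.pos i)] at hd'
    exact ho hd'
  · have hk : Nat.card pw.ker ≤ p ^ m := by
      have hg' : IsPGroup p pw.ker := fun x => ⟨m, Subtype.ext (Subtype.ext (by
        simp only [SubmonoidClass.coe_pow, OneMemClass.coe_one]
        exact MonoidHom.mem_ker.mp x.2))⟩
      obtain ⟨i, hi⟩ := IsPGroup.iff_card.mp hg'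
      rw [hi]
      refine Nat.pow_le_pow_right hp.pos ?_
      by_contra hlt
      exact hG ((((Nat.pow_dvd_pow p (by omega)).trans hi.symm.dvd).trans
        (Subgroup.card_subgroup_dvd_card pw.ker)).trans (Subgroup.card_subgroup_dvd_card B))
    have e1 := Subgroup.card_mul_index pw.ker
    rw [Subgroup.index_ker] at e1
    have e2 := Subgroup.card_mul_index A
    have e3 := Subgroup.card_mul_index B
    have hBi : B.index ≤ f * f * (p ^ m) ^ (p ^ m) :=
      (Subgroup.index_inf_le).trans (Nat.mul_le_mul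
        ((Subgroup.index_inf_le).trans (Nat.mul_le_mul hB₁i hB₂i)) hB₃i)
    have : A.index = Nat.card pw.ker * B.index := by
      have hA0 : 0 < Nat.card A := Nat.card_pos
      apply Nat.eq_of_mul_eq_mul_left hA0
      rw [e2, ← e3, ← e1]
      ring
    rw [this, redBound, mul_comm]
    exact Nat.mul_le_mul hBi hk

end CfsgLib.BrauerFeit
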