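import Mathlib.GroupTheory.Subgroup.Centralizer
import Mathlib.GroupTheory.QuotientGroup.Basic
import Mathlib.GroupTheory.Index
import Mathlib.GroupTheory.OrderOfElement
import Mathlib.GroupTheory.Coset.Card
import Mathlib.Tactic.Group
import Mathlib.Tactic.Ring

/-!
# Power-stable elements and the abelian subgroups they determine

An element `s` is power-stable if `s ^ E` has the same centralizer as `s`.  When the centralizer
of each noncentral element has an abelian normal subgroup of index at most `f` and `E = f!`,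
commuting is an equivalence relation on these elements.
-/

namespace CfsgLib.BrauerFeit

open scoped Classical

variable {G : Type*} [Group G]

/-- The centralizer of an element. -/
def cen (x : G) : Subgroup G := Subgroup.centralizer {x}

theorem mem_cen {g x : G} : g ∈ cen x ↔ Commute g x := by
  rw [cen, Subgroup.mem_centralizer_singleton_iff]
  rfl

theorem mem_center_iff_commute {x : G} : x ∈ Subgroup.center G ↔ ∀ g : G, Commute g x :=
  Subgroup.mem_center_iff

theorem commute_conj {g a b : G} (h : Commute a b) : Commute (g * a * g⁻¹) (g * b * g⁻¹) :=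
  Commute.map h (MulAut.conj g).toMonoidHom

theorem closure_commute {T : Set G} (hT : ∀ a ∈ T, ∀ b ∈ T, Commute a b) {a b : G}
    (ha : a ∈ Subgroup.closure T) (hb : b ∈ Subgroup.closure T) : Commute a b := by
  induction ha, hb using Subgroup.closure_induction₂ with
  | mem x y hx hy => exact hT x hx y hy
  | one_left x _ => exact Commute.one_left x
  | one_right x _ => exact Commute.one_right x
  | mul_left x y z _ _ _ h1 h2 => exact h1.mul_left h2
  | mul_right x y z _ _ _ h1 h2 => exact h1.mul_right h2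
  | inv_left x y _ _ h => exact h.inv_left
  | inv_right x y _ _ h => exact h.inv_right

theorem closure_prime_to {p : ℕ} (hp : p.Prime) {T : Set G}
    (hT : ∀ a ∈ T, ∀ b ∈ T, Commute a b) (hTp : ∀ a ∈ T, ¬ p ∣ orderOf a) {a : G}
    (ha : a ∈ Subgroup.closure T) : ¬ p ∣ orderOf a := by
  induction ha using Subgroup.closure_induction with
  | mem x hx => exact hTp x hx
  | one => rw [orderOf_one, Nat.dvd_one]; exact hp.one_lt.ne'
  | mul x y hx hy h1 h2 =>
    intro hd
    have := hd.trans ((closure_commute hT hx hy).orderOf_mul_dvd_lcm.trans (Nat.lcm_dvd_mul _ _))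
    rcases hp.dvd_mul.mp this with h | h
    · exact h1 h
    · exact h2 h
  | inv x _ h => rwa [orderOf_inv]

variable (G) in
/-- The hypotheses of the class equation argument. -/
structure Hyp [Finite G] (p f : ℕ) (b : ℕ → ℕ) (c : ℕ) : Prop where
  prime : p.Prime
  center_prime : ∀ z ∈ Subgroup.center G, ¬ p ∣ orderOf z
  local_abelian : ∀ x : G, x ∉ Subgroup.center G → ∃ M : Subgroup G, Subgroup.center G ≤ M ∧
    M ≤ cen x ∧ (∀ g ∈ cen x, ∀ a ∈ M, g * a * g⁻¹ ∈ M) ∧ (∀ a ∈ M, ∀ a' ∈ M, Commute a a') ∧
    (∀ a ∈ M, ¬ p ∣ orderOf a) ∧ Nat.card (cen x) ≤ f * Nat.card M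
  exponent_bound : ∀ (L : Subgroup G), (∀ a ∈ L, ∀ a' ∈ L, Commute a a') →
    (∀ a ∈ L, ¬ p ∣ orderOf a) → Subgroup.center G ≤ L → ∀ e : ℕ, 0 < e →
    (∀ a ∈ L, a ^ e ∈ Subgroup.center G) → Nat.card L ≤ b e * Nat.card (Subgroup.center G)
  normalizer_bound : ∀ (A : Subgroup G), (∀ a ∈ A, ∀ a' ∈ A, Commute a a') →
    (∀ a ∈ A, ¬ p ∣ orderOf a) →
    Nat.card (Subgroup.normalizer (A : Set G)) ≤ c * Nat.card (Subgroup.centralizer (A : Set G))
  normal_central : ∀ (A : Subgroup G), A.Normal → (∀ a ∈ A, ∀ a' ∈ A, Commute a a') →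
    (∀ a ∈ A, ¬ p ∣ orderOf a) → A ≤ Subgroup.center G

/-- Power-stable elements. -/
def stable (G : Type*) [Group G] (p f : ℕ) : Set G :=
  {s | ¬ p ∣ orderOf s ∧ s ∉ Subgroup.center G ∧
    ∀ g : G, Commute g (s ^ f.factorial) → Commute g s}

/-- The abelian subgroup of a stable element. -/
def torus (p f : ℕ) (s : G) : Subgroup G :=
  Subgroup.closure ({t | t ∈ stable G p f ∧ Commute t s} ∪ Subgroup.center G)

/-- The exponent used for iterated powers. -/
def expo (f : ℕ) : ℕ := f.factorial ^ (f + 2)

theorem stable_conj {p f : ℕ} {s : G} (g : G) (hs : s ∈ stable G p f) :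
    g * s * g⁻¹ ∈ stable G p f := by
  obtain ⟨h1, h2, h3⟩ := hs
  refine ⟨?_, ?_, ?_⟩
  · rwa [show g * s * g⁻¹ = (MulAut.conj g).toMonoidHom s from rfl,
      orderOf_injective (MulAut.conj g).toMonoidHom (MulAut.conj g).injective]
  · intro hz
    apply h2
    have h' : g⁻¹ * (g * s * g⁻¹) = g * s * g⁻¹ * g⁻¹ := (mem_center_iff_commute.mp hz g⁻¹).eq
    have h'' : s = g * s * g⁻¹ := by
      apply mul_right_cancel (b := g⁻¹)
      rw [← h']; group
    rwa [h'']
  · intro a ha
    rw [conj_pow] at ha
    have := commute_conj (g := g⁻¹) ha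
    simp only [inv_inv] at this
    rw [show g⁻¹ * (g * s ^ f.factorial * g⁻¹) * g = s ^ f.factorial from by group] at this
    have := commute_conj (g := g) (h3 _ this)
    rwa [show g * (g⁻¹ * a * g) * g⁻¹ = a from by group] at this

variable [Finite G] {p f : ℕ} {b : ℕ → ℕ} {c : ℕ}

/-- The `f!`-th power of an element of the centralizer lands in the abelian normal subgroup. -/
theorem pow_factorial_mem {x : G} {M : Subgroup G} (hM : M ≤ cen x)
    (hn : ∀ g ∈ cen x, ∀ a ∈ M, g * a * g⁻¹ ∈ M) (hf : Nat.card (cen x) ≤ f * Nat.card M)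
    {a : G} (ha : a ∈ cen x) : a ^ f.factorial ∈ M := by
  have : (M.subgroupOf (cen x)).Normal :=
    ⟨fun m hm g => hn _ g.2 _ hm⟩
  have h1 := Subgroup.pow_index_mem (M.subgroupOf (cen x)) (⟨a, ha⟩ : cen x)
  have h2 : (M.subgroupOf (cen x)).index ≤ f := by
    have h3 := Subgroup.card_mul_index (M.subgroupOf (cen x))
    rw [Nat.card_congr (Subgroup.subgroupOfEquivOfLe hM).toEquiv] at h3
    have hpos : 0 < Nat.card M := Nat.card_pos
    rw [← h3] at hf
    rw [mul_comm f] at hf
    exact Nat.le_of_mul_le_mul_left hf hpos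
  obtain ⟨k, hk⟩ := Nat.dvd_factorial (Nat.pos_of_ne_zero (Subgroup.index_ne_zero_of_finite
    (H := M.subgroupOf (cen x)))) h2
  rw [hk, pow_mul]
  refine M.pow_mem ?_ k
  simpa [Subgroup.mem_subgroupOf] using h1

theorem stable_pow_not_central {s : G} (hs : s ∈ stable G p f) :
    s ^ f.factorial ∉ Subgroup.center G := fun h =>
  hs.2.1 (mem_center_iff_commute.mpr fun g => hs.2.2 g (mem_center_iff_commute.mp h g))

/-- Commuting is transitive on stable elements; more precisely stable elements commuting with a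
common noncentral element commute. -/
theorem commute_of_common (H : Hyp G p f b c) {x s t : G} (hx : x ∉ Subgroup.center G)
    (hs : s ∈ stable G p f) (ht : t ∈ stable G p f) (hsx : Commute s x) (htx : Commute t x) :
    Commute s t := by
  obtain ⟨M, _, hM, hn, hab, _, hcard⟩ := H.local_abelian x hx
  have h1 := hab _ (pow_factorial_mem hM hn hcard (mem_cen.mpr hsx)) _
    (pow_factorial_mem hM hn hcard (mem_cen.mpr htx))
  exact hs.2.2 t (ht.2.2 (s ^ f.factorial) h1).symm |>.symm

/-- A prime-to-`p` element with noncentral high power has a stable power. -/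
theorem exists_stable_pow (H : Hyp G p f b c) {a : G} (hap : ¬ p ∣ orderOf a)
    (ha : a ^ expo f ∉ Subgroup.center G) :
    ∃ i, i ≤ f + 2 ∧ a ^ (f.factorial ^ i) ∈ stable G p f := by
  by_contra hno
  simp only [not_exists, not_and] at hno
  set E := f.factorial with hE
  set K := f + 2 with hK
  have hpw : ∀ i, i ≤ K → a ^ E ^ i ∉ Subgroup.center G := by
    intro i hi h
    apply ha
    obtain ⟨j, hj⟩ := Nat.exists_eq_add_of_le hi
    rw [expo, ← hE, ← hK, hj, pow_add, pow_mul]
    exact (Subgroup.center G).pow_mem h _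
  have hpp : ∀ i, ¬ p ∣ orderOf (a ^ E ^ i) := fun i h => hap (h.trans (orderOf_pow_dvd _))
  have hstep : ∀ i, i ≤ K → cen (a ^ E ^ i) < cen (a ^ E ^ (i + 1)) := by
    intro i hi
    have hns := hno i hi
    simp only [stable, Set.mem_ofPred_eq, not_and, not_forall] at hns
    obtain ⟨g, hg, hg'⟩ := hns (hpp i) (hpw i hi)
    refine lt_of_le_of_ne ?_ ?_
    · intro x hx
      rw [mem_cen] at hx ⊢
      rw [pow_succ, pow_mul]
      exact hx.pow_right _
    · intro heq
      apply hg'
      rw [← mem_cen, heq, mem_cen, pow_succ, pow_mul]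
      exact hg
  obtain ⟨M, _, hM, hn, hab, _, hcard⟩ := H.local_abelian _ (hpw K le_rfl)
  have hmem : ∀ i, 1 ≤ i → i ≤ K → a ^ E ^ i ∈ M := by
    intro i hi hiK
    obtain ⟨j, rfl⟩ := Nat.exists_eq_add_of_le hi
    rw [add_comm, pow_succ', pow_mul]
    refine M.pow_mem ?_ _
    refine pow_factorial_mem hM hn hcard ?_
    rw [mem_cen]
    exact Commute.self_pow a _
  have hle : ∀ i, 1 ≤ i → i ≤ K → M ≤ cen (a ^ E ^ i) := fun i hi hiK x hx =>
    mem_cen.mpr (hab x hx _ (hmem i hi hiK))
  have hgrow : ∀ i, 1 ≤ i → i ≤ K → i * Nat.card M ≤ Nat.card (cen (a ^ E ^ i)) := by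
    intro i hi
    induction i, hi using Nat.le_induction with
    | base =>
      intro hiK
      rw [one_mul]
      exact Subgroup.card_le_of_le (hle 1 le_rfl hiK)
    | succ i hi ih =>
      intro hiK
      have h1 := ih (by omega)
      obtain ⟨k1, hk1⟩ := Subgroup.card_dvd_of_le (hle i hi (by omega))
      obtain ⟨k2, hk2⟩ := Subgroup.card_dvd_of_le (hle (i + 1) (by omega) hiK)
      have hlt : Nat.card (cen (a ^ E ^ i)) < Nat.card (cen (a ^ E ^ (i + 1))) :=
        lt_of_not_ge fun hge => (hstep i (by omega)).ne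
          (Subgroup.eq_of_le_of_card_ge (hstep i (by omega)).le hge)
      rw [hk1] at h1 hlt
      rw [hk2] at hlt
      rw [hk2]
      have hpos : 0 < Nat.card M := Nat.card_pos
      have hk12 : k1 < k2 := Nat.lt_of_mul_lt_mul_left hlt
      have hik : i ≤ k1 := by
        rw [mul_comm i] at h1
        exact Nat.le_of_mul_le_mul_left h1 hpos
      rw [mul_comm (Nat.card M)]
      exact Nat.mul_le_mul_right _ (by omega)
  have := (hgrow K (by omega) le_rfl).trans hcard
  have hpos : 0 < Nat.card M := Nat.card_pos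
  have := Nat.le_of_mul_le_mul_right this hpos
  omega

theorem torus_gen_commute (H : Hyp G p f b c) {s : G} (hs : s ∈ stable G p f) :
    ∀ u ∈ {t | t ∈ stable G p f ∧ Commute t s} ∪ (Subgroup.center G : Set G),
    ∀ v ∈ {t | t ∈ stable G p f ∧ Commute t s} ∪ (Subgroup.center G : Set G), Commute u v := by
  rintro u (hu | hu) v (hv | hv)
  · exact commute_of_common H hs.2.1 hu.1 hv.1 hu.2 hv.2
  · exact mem_center_iff_commute.mp hv u
  · exact (mem_center_iff_commute.mp hu v).symm
  · exact mem_center_iff_commute.mp hv u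

theorem torus_commute (H : Hyp G p f b c) {s : G} (hs : s ∈ stable G p f) :
    ∀ u ∈ torus p f s, ∀ v ∈ torus p f s, Commute u v := fun _ hu _ hv =>
  closure_commute (torus_gen_commute H hs) hu hv

theorem torus_prime_to (H : Hyp G p f b c) {s : G} (hs : s ∈ stable G p f) :
    ∀ u ∈ torus p f s, ¬ p ∣ orderOf u := fun _ hu => closure_prime_to H.prime
  (torus_gen_commute H hs)
  (by
    rintro v (hv | hv)
    · exact hv.1.1
    · exact H.center_prime v hv) hu

theorem center_le_torus (s : G) : Subgroup.center G ≤ torus p f s := fun _ hz =>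
  Subgroup.subset_closure (Or.inr hz)

theorem mem_torus {s t : G} (ht : t ∈ stable G p f) (hc : Commute t s) : t ∈ torus p f s :=
  Subgroup.subset_closure (Or.inl ⟨ht, hc⟩)

theorem self_mem_torus {s : G} (hs : s ∈ stable G p f) : s ∈ torus p f s :=
  mem_torus hs (Commute.refl s)

theorem torus_eq_of_commute (H : Hyp G p f b c) {s t : G} (hs : s ∈ stable G p f)
    (ht : t ∈ stable G p f) (hc : Commute s t) : torus p f s = torus p f t := by
  unfold torus
  congr 1
  ext u
  simp only [Set.mem_union, Set.mem_ofPred_eq]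
  refine or_congr_left ⟨fun h => ⟨h.1, ?_⟩, fun h => ⟨h.1, ?_⟩⟩
  · exact commute_of_common H hs.2.1 h.1 ht h.2 hc.symm
  · exact commute_of_common H ht.2.1 h.1 hs h.2 hc

theorem torus_eq_of_mem (H : Hyp G p f b c) {s t : G} (hs : s ∈ stable G p f)
    (ht : t ∈ stable G p f) (hm : t ∈ torus p f s) : torus p f t = torus p f s :=
  (torus_eq_of_commute H hs ht (torus_commute H hs s (self_mem_torus hs) t hm)).symm

theorem torus_conj (g : G) (s : G) :
    (torus p f s).map (MulAut.conj g).toMonoidHom = torus p f (g * s * g⁻¹) := by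
  have key : ∀ (g s : G),
      (torus p f s).map (MulAut.conj g).toMonoidHom ≤ torus p f (g * s * g⁻¹) := by
    intro g s
    rw [torus, MonoidHom.map_closure, Subgroup.closure_le]
    rintro _ ⟨u, hu, rfl⟩
    rcases hu with ⟨hu, hus⟩ | hu
    · exact mem_torus (stable_conj g hu) (commute_conj hus)
    · refine center_le_torus _ ?_
      show g * u * g⁻¹ ∈ Subgroup.center G
      rw [(mem_center_iff_commute.mp hu g).eq, mul_inv_cancel_right]
      exact hu
  refine le_antisymm (key g s) fun x hx => ?_
  refine ⟨g⁻¹ * x * g, ?_, ?_⟩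
  · have := key g⁻¹ (g * s * g⁻¹) ⟨x, hx, rfl⟩
    simpa [mul_assoc] using this
  · simp [mul_assoc]

theorem torus_not_le_center {s : G} (hs : s ∈ stable G p f) :
    ¬ torus p f s ≤ Subgroup.center G := fun h => hs.2.1 (h (self_mem_torus hs))

/-- The index bound for the torus in its normalizer. -/
theorem card_normalizer_torus_le (H : Hyp G p f b c) {s : G} (hs : s ∈ stable G p f) :
    Nat.card (Subgroup.normalizer (torus p f s : Set G)) ≤
      c * (f * b (expo f)) * Nat.card (torus p f s) := by
  set A := torus p f s with hA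
  have h1 := H.normalizer_bound A (torus_commute H hs) (torus_prime_to H hs)
  have h2 : Subgroup.centralizer (A : Set G) ≤ cen s := fun g hg =>
    mem_cen.mpr ((Subgroup.mem_centralizer_iff.mp hg s (self_mem_torus hs)).symm)
  obtain ⟨M, hZM, hM, hn, hab, hMp, hcard⟩ := H.local_abelian s hs.2.1
  have h3 : Nat.card M ≤ b (expo f) * Nat.card A := by
    have hpow : ∀ a ∈ M, a ^ expo f ∈ A := by
      intro a ha
      by_cases hz : a ^ expo f ∈ Subgroup.center G
      · exact center_le_torus s hz
      obtain ⟨i, hi, hst⟩ := exists_stable_pow H (hMp a ha) hz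
      obtain ⟨j, hj⟩ := Nat.exists_eq_add_of_le hi
      rw [expo, hj, pow_add, pow_mul]
      refine A.pow_mem ?_ _
      exact mem_torus hst ((mem_cen.mp (hM ha)).pow_left _)
    let ψ : M →* G ⧸ Subgroup.center G :=
      { toFun := fun a => QuotientGroup.mk ((a : G) ^ expo f)
        map_one' := by simp
        map_mul' := fun a a' => by
          rw [Subgroup.coe_mul, (hab a a.2 a' a'.2).mul_pow]
          rfl }
    let L : Subgroup G := ψ.ker.map M.subtype
    have hLM : L ≤ M := Subgroup.map_subtype_le _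
    have hLe : ∀ a ∈ L, a ^ expo f ∈ Subgroup.center G := by
      rintro _ ⟨a, ha, rfl⟩
      exact (QuotientGroup.eq_one_iff _).mp (MonoidHom.mem_ker.mp ha)
    have hZL : Subgroup.center G ≤ L := fun z hz =>
      ⟨⟨z, hZM hz⟩, MonoidHom.mem_ker.mpr ((QuotientGroup.eq_one_iff _).mpr
        ((Subgroup.center G).pow_mem hz _)), rfl⟩
    have hL := H.exponent_bound L (fun a ha a' ha' => hab a (hLM ha) a' (hLM ha'))
      (fun a ha => hMp a (hLM ha)) hZL (expo f) (pow_pos (Nat.factorial_pos f) _) hLe
    rw [Subgroup.card_map_of_injective M.subtype_injective] at hL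
    let R : Subgroup (G ⧸ Subgroup.center G) := A.map (QuotientGroup.mk' (Subgroup.center G))
    have hR : Nat.card ψ.range ≤ Nat.card R := by
      refine Subgroup.card_le_of_le ?_
      rintro _ ⟨a, rfl⟩
      exact ⟨_, hpow a a.2, rfl⟩
    have hRA : Nat.card R * Nat.card (Subgroup.center G) = Nat.card A := by
      let φ := (QuotientGroup.mk' (Subgroup.center G)).comp A.subtype
      have := Subgroup.card_mul_index φ.ker
      rw [Subgroup.index_ker] at this
      have hk : Nat.card φ.ker = Nat.card (Subgroup.center G) := by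
        rw [← Nat.card_congr (Subgroup.subgroupOfEquivOfLe (center_le_torus (p := p) (f := f) s)).toEquiv]
        congr
        ext a
        simp [φ, Subgroup.mem_subgroupOf, QuotientGroup.eq_one_iff, hA]
      have hr : φ.range = R := by
        rw [MonoidHom.range_comp, Subgroup.range_subtype]
      rw [hk, hr] at this
      rw [mul_comm]; exact this
    have h4 := Subgroup.card_mul_index ψ.ker
    rw [Subgroup.index_ker] at h4
    calc Nat.card M = Nat.card ψ.ker * Nat.card ψ.range := h4.symm
      _ ≤ (b (expo f) * Nat.card (Subgroup.center G)) * Nat.card R := Nat.mul_le_mul hL hR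
      _ = b (expo f) * Nat.card A := by rw [mul_assoc, mul_comm (Nat.card _) (Nat.card R), hRA]
  calc Nat.card (Subgroup.normalizer (A : Set G))
      ≤ c * Nat.card (Subgroup.centralizer (A : Set G)) := h1
    _ ≤ c * (f * (b (expo f) * Nat.card A)) := by
        refine Nat.mul_le_mul_left _ ((Subgroup.card_le_of_le h2).trans ?_)
        exact hcard.trans (Nat.mul_le_mul_left _ h3)
    _ = _ := by ring

end CfsgLib.BrauerFeit
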