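import Mathlib.LinearAlgebra.Eigenspace.Pi
import Mathlib.LinearAlgebra.Eigenspace.Semisimple
import Mathlib.LinearAlgebra.Eigenspace.Triangularizable
import Mathlib.LinearAlgebra.Dimension.Finite
import Mathlib.FieldTheory.Separable
import Mathlib.RepresentationTheory.Basic
import Mathlib.GroupTheory.Index
import Mathlib.GroupTheory.Subgroup.Centralizer
import Mathlib.Data.Finset.Card
import Mathlib.Tactic.Group
import Mathlib.SetTheory.Cardinal.Finite
import Mathlib.RingTheory.RootsOfUnity.Basic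

/-!
# Weights of abelian prime-to-characteristic subgroups of linear groups
-/

namespace CfsgLib.BrauerFeit

open scoped Classical
open Module

/-- A map whose fibres lie in cosets of `H` bounds the order. -/
theorem card_le_of_fibres {G : Type*} [Group G] [Finite G] (H N : Subgroup G) {β : Type*}
    [Finite β] (φ : N → β) (h : ∀ g g' : N, φ g = φ g' → (g : G) * (g' : G)⁻¹ ∈ H) :
    Nat.card N ≤ Nat.card β * Nat.card H := by
  have : Nonempty N := ⟨1⟩
  rw [← Nat.card_prod]
  refine Nat.card_le_card_of_injective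
    (fun g => (φ g, (⟨_, h g (Function.invFun φ (φ g))
      (Function.invFun_eq ⟨g, rfl⟩).symm⟩ : H))) ?_
  intro g g' hgg
  simp only [Prod.mk.injEq, Subtype.mk.injEq] at hgg
  rw [hgg.1] at hgg
  exact Subtype.ext (mul_right_cancel hgg.2)

/-- Invariant subspaces are trivial. -/
def Irred {G k V : Type*} [Group G] [Field k] [AddCommGroup V] [Module k V]
    (ρ : G →* Module.End k V) : Prop :=
  Nontrivial V ∧ ∀ W : Submodule k V, (∀ g : G, ∀ w ∈ W, ρ g w ∈ W) → W = ⊥ ∨ W = ⊤

variable {G : Type*} [Group G] [Finite G] {k : Type*} [Field k] [IsAlgClosed k]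
  {V : Type*} [AddCommGroup V] [Module k V] [FiniteDimensional k V] {p : ℕ} [Fact p.Prime]
  [CharP k p] (ρ : G →* Module.End k V)

/-- The weight space of a subgroup. -/
def wsp (A : Subgroup G) (χ : A → k) : Submodule k V :=
  ⨅ a : A, Module.End.eigenspace (ρ (a : G)) (χ a)

/-- The weights of a subgroup. -/
def Wt (A : Subgroup G) : Type _ := {χ : A → k // wsp ρ A χ ≠ ⊥}

omit [Finite G] [IsAlgClosed k] [FiniteDimensional k V] in
theorem mem_wsp {A : Subgroup G} {χ : A → k} {v : V} :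
    v ∈ wsp ρ A χ ↔ ∀ a : A, ρ (a : G) v = χ a • v := by
  simp [wsp, Submodule.mem_iInf]

theorem semisimple_apply {g : G} (hg : ¬ p ∣ orderOf g) :
    Module.End.IsFinitelySemisimple (ρ g) := by
  refine Module.End.IsSemisimple.isFinitelySemisimple ?_
  refine Module.End.isSemisimple_of_squarefree_aeval_eq_zero
    (p := Polynomial.X ^ orderOf g - 1) ?_ ?_
  · exact (Polynomial.X_pow_sub_one_separable_iff.mpr
      (fun h => hg ((CharP.cast_eq_zero_iff k p _).mp h))).squarefree
  · rw [map_sub, map_pow, map_one, Polynomial.aeval_X, ← map_pow, pow_orderOf_eq_one, map_one,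
      sub_self]

variable {ρ}
variable {A : Subgroup G} (hA : ∀ a ∈ A, ∀ b ∈ A, Commute a b) (hAp : ∀ a ∈ A, ¬ p ∣ orderOf a)
include hA hAp

theorem wsp_eq (χ : A → k) :
    wsp ρ A χ = ⨅ a : A, Module.End.maxGenEigenspace (ρ (a : G)) (χ a) :=
  iInf_congr fun a =>
    ((semisimple_apply ρ (hAp a a.2)).maxGenEigenspace_eq_eigenspace (χ a)).symm

theorem iSup_wsp : ⨆ χ, wsp ρ A χ = ⊤ := by
  simp only [wsp_eq hA hAp]
  refine Module.End.iSup_iInf_maxGenEigenspace_eq_top_of_iSup_maxGenEigenspace_eq_top_of_commute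
    _ (fun a b _ => ?_) fun a => Module.End.iSup_maxGenEigenspace_eq_top _
  exact (hA a a.2 b b.2).map ρ

theorem iSupIndep_wsp : iSupIndep (wsp ρ A) := by
  rw [funext (wsp_eq (ρ := ρ) hA hAp)]
  refine Module.End.independent_iInf_maxGenEigenspace_of_forall_mapsTo _ fun a b φ => ?_
  exact Module.End.mapsTo_maxGenEigenspace_of_comm ((hA b b.2 a a.2).map ρ) φ

theorem finite_wt : Finite (Wt ρ A) := by
  have := (iSupIndep_wsp (ρ := ρ) hA hAp).fintypeNeBotOfFiniteDimensional
  exact Finite.of_fintype {χ : A → k // wsp ρ A χ ≠ ⊥}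

theorem card_wt_le : Nat.card (Wt ρ A) ≤ finrank k V := by
  have hf := (iSupIndep_wsp (ρ := ρ) hA hAp).fintypeNeBotOfFiniteDimensional
  rw [Wt, Nat.card_eq_fintype_card]
  exact (iSupIndep_wsp (ρ := ρ) hA hAp).subtype_ne_bot_le_finrank

theorem nonempty_wt [Nontrivial V] : Nonempty (Wt ρ A) := by
  by_contra h
  have : (⊤ : Submodule k V) = ⊥ := by
    rw [← iSup_wsp (ρ := ρ) hA hAp, iSup_eq_bot]
    intro χ
    by_contra hne
    exact h ⟨⟨χ, hne⟩⟩
  exact top_ne_bot this

/-- An endomorphism agreeing with a scalar on all weight spaces is that scalar. -/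
theorem ext_of_wsp {T T' : Module.End k V}
    (h : ∀ (χ : Wt ρ A) (v : V), v ∈ wsp ρ A χ.1 → T v = T' v) : T = T' := by
  refine LinearMap.ext fun v => ?_
  have hv : v ∈ LinearMap.eqLocus T T' := by
    have : ⨆ χ, wsp ρ A χ ≤ LinearMap.eqLocus T T' := by
      refine iSup_le fun χ w hw => ?_
      by_cases hne : wsp ρ A χ = ⊥
      · rw [hne, Submodule.mem_bot] at hw
        rw [hw]; exact Submodule.zero_mem _
      · exact h ⟨χ, hne⟩ w hw
    exact this (by rw [iSup_wsp (ρ := ρ) hA hAp]; trivial)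
  exact hv

theorem weights_separate (hρ : Function.Injective ρ) {a b : A}
    (h : ∀ χ : Wt ρ A, χ.1 a = χ.1 b) : a = b := by
  refine Subtype.ext (hρ (ext_of_wsp (ρ := ρ) hA hAp fun χ v hv => ?_))
  rw [mem_wsp] at hv
  rw [hv a, hv b, h χ]

/-- The normalizer modulo the centralizer of an abelian subgroup is bounded. -/
theorem card_normalizer_le (hρ : Function.Injective ρ) :
    Nat.card (Subgroup.normalizer (A : Set G)) ≤
      (finrank k V) ^ (finrank k V) * Nat.card (Subgroup.centralizer (A : Set G)) := by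
  have := finite_wt (ρ := ρ) hA hAp
  have hfin : Fintype (Wt ρ A) := Fintype.ofFinite _
  set N := Subgroup.normalizer (A : Set G) with hN
  have : Fintype N := Fintype.ofFinite _
  have hconj : ∀ (g : N) (a : A), (g : G)⁻¹ * a * g ∈ A := by
    intro g a
    have := (Subgroup.mem_normalizer_iff.mp (N.inv_mem g.2) a).mp a.2
    simpa using this
  have hmove : ∀ (g : N) (χ : Wt ρ A),
      wsp ρ A (fun a => χ.1 ⟨_, hconj g a⟩) ≠ ⊥ := by
    intro g χ
    obtain ⟨v, hv, hv0⟩ := (Submodule.ne_bot_iff _).mp χ.2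
    refine (Submodule.ne_bot_iff _).mpr ⟨ρ (g : G) v, ?_, fun h0 => hv0 ?_⟩
    · rw [mem_wsp] at hv ⊢
      intro a
      rw [← map_smul, ← hv ⟨_, hconj g a⟩, ← Module.End.mul_apply, ← Module.End.mul_apply,
        ← map_mul, ← map_mul]
      congr 2
      simp [mul_assoc]
    · have := congrArg (ρ (g : G)⁻¹) h0
      rwa [map_zero, ← Module.End.mul_apply, ← map_mul, inv_mul_cancel, map_one,
        Module.End.one_apply] at this
  let φ : N → (Wt ρ A → Wt ρ A) := fun g χ => ⟨_, hmove g χ⟩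
  have hfib : ∀ g h : N, φ g = φ h →
      (g : G) * (h : G)⁻¹ ∈ Subgroup.centralizer (A : Set G) := by
    intro g h hgh
    rw [Subgroup.mem_centralizer_iff]
    intro a ha
    have h1 : (⟨_, hconj g ⟨a, ha⟩⟩ : A) = ⟨_, hconj h ⟨a, ha⟩⟩ :=
      weights_separate hA hAp hρ fun χ => congrFun (congrArg Subtype.val (congrFun hgh χ)) ⟨a, ha⟩
    have h2 : (g : G)⁻¹ * a * g = (h : G)⁻¹ * a * h := congrArg Subtype.val h1
    calc a * ((g : G) * (h : G)⁻¹) = (g : G) * ((g : G)⁻¹ * a * g) * (h : G)⁻¹ := by group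
      _ = (g : G) * ((h : G)⁻¹ * a * h) * (h : G)⁻¹ := by rw [h2]
      _ = (g : G) * (h : G)⁻¹ * a := by group
  refine (card_le_of_fibres _ N φ hfib).trans (Nat.mul_le_mul_right _ ?_)
  rw [Nat.card_fun]
  have hle := card_wt_le (ρ := ρ) hA hAp
  rcases Nat.eq_zero_or_pos (Nat.card (Wt ρ A)) with h0 | h0
  · rw [h0, pow_zero]
    rcases Nat.eq_zero_or_pos (finrank k V) with h1 | h1
    · rw [h1, pow_zero]
    · exact Nat.one_le_pow _ _ h1
  · exact (Nat.pow_le_pow_left hle _).trans (Nat.pow_le_pow_right (h0.trans_le hle) hle)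

end CfsgLib.BrauerFeit
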